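import Groth.Agent.Lib.RelFill25.Lift
import Groth.Agent.Lib.Hyper19.Sphere

/-! # Cones in the fibres -/

set_option autoImplicit false
set_option linter.all false
set_option backward.isDefEq.respectTransparency false
universe u

open CategoryTheory Opposite Simplicial

namespace GrothLib.RelFill25

open GrothLib.Hyper19

variable {C : Type u} [SmallCategory C] {J : GrothendieckTopology C}
  {P Q : SimplicialObject (Cᵒᵖ ⥤ Type u)}

lemma act_rst {a b : SimplexCategory} {U V : C} (θ : a ⟶ b) (g : V ⟶ U)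
    (x : (P.obj (op b)).obj (op U)) :
    act θ ((P.obj (op b)).map g.op x) = (P.obj (op a)).map g.op (act θ x) :=
  NatTrans.naturality_apply (P.map θ.op) g.op x

lemma fapp_act (f : P ⟶ Q) {a b : ℕ} {U : C} (θ : ⦋a⦌ ⟶ ⦋b⦌) (x : Sx P b U) :
    fapp f (act θ x) = act θ (fapp f x) :=
  congrArg (fun t : P.obj (op ⦋b⦌) ⟶ Q.obj (op ⦋a⦌) => t.app (op U) x) (f.naturality θ.op)

/-- A map of simplices extended by the vertex `0`. -/
def coneθ {k m : ℕ} (θ : ⦋k⦌ ⟶ ⦋m⦌) : ⦋k + 1⦌ ⟶ ⦋m⦌ :=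
  SimplexCategory.Hom.mk
    { toFun := Fin.cases (motive := fun _ => Fin (m + 1)) 0 (fun i => θ.toOrderHom i)
      monotone' := fun a b hab => by
        induction a using Fin.cases with
        | zero => exact Fin.zero_le _
        | succ a =>
          induction b using Fin.cases with
          | zero => exact absurd hab (by simp [Fin.le_def])
          | succ b =>
            simp only [Fin.cases_succ]
            exact θ.toOrderHom.monotone (Fin.succ_le_succ_iff.1 hab) }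

/-- The constant map at the vertex `0`. -/
def vtx0 (k m : ℕ) : ⦋k⦌ ⟶ ⦋m⦌ := SimplexCategory.const ⦋k⦌ ⦋m⦌ 0

lemma δ_zero_coneθ {k m : ℕ} (θ : ⦋k⦌ ⟶ ⦋m⦌) : SimplexCategory.δ 0 ≫ coneθ θ = θ := by
  refine SimplexCategory.Hom.ext _ _ (OrderHom.ext _ _ (funext fun i => ?_))
  rfl

lemma δ_succ_coneθ {k m : ℕ} (θ : ⦋k + 1⦌ ⟶ ⦋m⦌) (i : Fin (k + 2)) :
    SimplexCategory.δ i.succ ≫ coneθ θ = coneθ (SimplexCategory.δ i ≫ θ) := by
  refine SimplexCategory.Hom.ext _ _ (OrderHom.ext _ _ (funext fun a => ?_))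
  induction a using Fin.cases with
  | zero =>
    change Fin.cases (motive := fun _ => Fin (m + 1)) 0 (fun i => θ.toOrderHom i) (i.succ.succAbove 0) = 0
    rw [Fin.succ_succAbove_zero]
    rfl
  | succ a =>
    change Fin.cases (motive := fun _ => Fin (m + 1)) 0 (fun i => θ.toOrderHom i) (i.succ.succAbove a.succ) =
      θ.toOrderHom (i.succAbove a)
    rw [Fin.succ_succAbove_succ, Fin.cases_succ]

lemma δ_one_coneθ {m : ℕ} (θ : ⦋0⦌ ⟶ ⦋m⦌) : SimplexCategory.δ 1 ≫ coneθ θ = vtx0 0 m := by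
  refine SimplexCategory.Hom.ext _ _ (OrderHom.ext _ _ (funext fun a => ?_))
  obtain rfl : a = 0 := Fin.fin_one_eq_zero a
  rfl

/-- Pairs lying over `σ`. -/
def Fib (f : P ⟶ Q) {m : ℕ} {V : C} (σ : Sx Q m V) (k : ℕ) : Set (Sx (prodΔ P m) k V) :=
  {a | fapp f a.1 = act a.2 σ}

/-- A coherent cone in the fibre over `σ`. -/
def Cn (f : P ⟶ Q) {m : ℕ} {V W : C} (σ : Sx Q m V) (e : W ⟶ V) (p : Sx P 0 W) :
    ∀ (k : ℕ) (T : Set (Sx (prodΔ P m) k V)) (c : Sx (prodΔ P m) k V → Sx P (k + 1) W), Prop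
  | 0, T, c => ∀ a ∈ T, face P 0 (c a) = rst P e a.1 ∧ face P 1 (c a) = p ∧
      fapp f (c a) = act (coneθ a.2) (rst Q e σ)
  | k + 1, T, c => ∃ c', Cn f σ e p k (faces (prodΔ P m) T) c' ∧ ∀ a ∈ T,
      face P 0 (c a) = rst P e a.1 ∧ (∀ i : Fin (k + 2), face P i.succ (c a) = c' (face (prodΔ P m) i a)) ∧
      fapp f (c a) = act (coneθ a.2) (rst Q e σ)

lemma Cn.image {f : P ⟶ Q} {m k : ℕ} {V W : C} {σ : Sx Q m V} {e : W ⟶ V} {p : Sx P 0 W}
    {T : Set (Sx (prodΔ P m) k V)} {c : Sx (prodΔ P m) k V → Sx P (k + 1) W} (hc : Cn f σ e p k T c)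
    {a : Sx (prodΔ P m) k V} (ha : a ∈ T) :
    fapp f (c a) = act (coneθ a.2) (rst Q e σ) ∧ face P 0 (c a) = rst P e a.1 := by
  cases k with
  | zero => exact ⟨(hc a ha).2.2, (hc a ha).1⟩
  | succ k => obtain ⟨_, _, h⟩ := hc; exact ⟨(h a ha).2.2, (h a ha).1⟩

lemma Cn.restrict {f : P ⟶ Q} {m k : ℕ} {V W W' : C} {σ : Sx Q m V} {e : W ⟶ V} {p : Sx P 0 W}
    (h : W' ⟶ W) : ∀ {T : Set (Sx (prodΔ P m) k V)} {c : Sx (prodΔ P m) k V → Sx P (k + 1) W},
      Cn f σ e p k T c → Cn f σ (h ≫ e) (rst P h p) k T (fun a => rst P h (c a)) := by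
  induction k with
  | zero =>
    intro T c hc a ha
    obtain ⟨h0, h1, h2⟩ := hc a ha
    exact ⟨by rw [face_rst, h0, rst_rst], by rw [face_rst, h1],
      by rw [fapp_rst, h2, ← rst_rst Q e h σ]; exact (act_rst _ h _).symm⟩
  | succ k ih =>
    intro T c hc
    obtain ⟨c', hc', hc⟩ := hc
    refine ⟨fun a => rst P h (c' a), ih hc', fun a ha => ⟨?_, fun i => ?_, ?_⟩⟩
    · rw [face_rst, (hc a ha).1, rst_rst]
    · rw [face_rst, (hc a ha).2.1 i]
    · rw [fapp_rst, (hc a ha).2.2, ← rst_rst Q e h σ]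
      exact (act_rst _ h _).symm

lemma Cn.compat {f : P ⟶ Q} {m k : ℕ} {V W : C} {σ : Sx Q m V} {e : W ⟶ V} {p : Sx P 0 W}
    {T : Set (Sx (prodΔ P m) (k + 1) V)} {c : Sx (prodΔ P m) k V → Sx P (k + 1) W}
    (hc : Cn f σ e p k (faces (prodΔ P m) T) c) {a : Sx (prodΔ P m) (k + 1) V} (ha : a ∈ T)
    (i j : Fin (k + 1)) (hij : i ≤ j) :
    face P i.succ (c (face (prodΔ P m) j.succ a)) = face P j.succ (c (face (prodΔ P m) i.castSucc a)) := by
  have hm : ∀ b : Fin (k + 2), face (prodΔ P m) b a ∈ faces (prodΔ P m) T :=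
    fun b => Set.mem_iUnion.2 ⟨b, a, ha, rfl⟩
  cases k with
  | zero =>
    obtain rfl : i = 0 := Fin.fin_one_eq_zero i
    obtain rfl : j = 0 := Fin.fin_one_eq_zero j
    exact (hc _ (hm _)).2.1.trans (hc _ (hm _)).2.1.symm
  | succ k =>
    obtain ⟨c'', _, h⟩ := hc
    rw [(h _ (hm _)).2.1 i, (h _ (hm _)).2.1 j, face_face _ hij]

lemma face_mem_Fib {f : P ⟶ Q} {m k : ℕ} {V : C} {σ : Sx Q m V} {a : Sx (prodΔ P m) (k + 1) V}
    (ha : a ∈ Fib f σ (k + 1)) (i : Fin (k + 2)) : face (prodΔ P m) i a ∈ Fib f σ k := by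
  change fapp f (face P i a.1) = act (SimplexCategory.δ i ≫ a.2) σ
  rw [fapp_face, show fapp f a.1 = act a.2 σ from ha, act_comp]
  rfl

/-- Finite sets in a fibre have local cones with any vertex over the vertex `0`. -/
theorem exists_cn {f : P ⟶ Q} (hf : RFill J f) {m : ℕ} {V : C} (σ : Sx Q m V) (p : Sx P 0 V)
    (hp : fapp f p = act (vtx0 0 m) σ) :
    ∀ (k : ℕ) (T : Set (Sx (prodΔ P m) k V)), T.Finite → T ⊆ Fib f σ k →
      ∃ S ∈ J V, ∀ ⦃W : C⦄ (e : W ⟶ V), S e → ∃ c, Cn f σ e (rst P e p) k T c := by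
  classical
  intro k
  induction k with
  | zero =>
    intro T hT hTF
    obtain ⟨S, hS, h⟩ := exists_rfill_finite hf T hT
      (fun a => Fin.cases (motive := fun _ => Sx P 0 V) a.1 (fun _ => p))
      (fun a => act (coneθ a.2) σ) (fun a _ => trivial) (fun a ha i => by
        induction i using Fin.cases with
        | zero =>
          change act (SimplexCategory.δ 0) (act (coneθ a.2) σ) = fapp f a.1
          rw [← act_comp, δ_zero_coneθ, hTF ha]
        | succ i =>
          obtain rfl : i = 0 := Fin.fin_one_eq_zero i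
          change act (SimplexCategory.δ 1) (act (coneθ a.2) σ) = fapp f p
          rw [← act_comp, δ_one_coneθ, hp])
    refine ⟨S, hS, fun W e he => ?_⟩
    choose x hx hx' using h e he
    refine ⟨fun a => if ha : a ∈ T then x a ha else (P.σ 0).app (op W) (rst P e p), fun a ha => ?_⟩
    simp only [dif_pos ha]
    exact ⟨hx a ha 0, hx a ha 1, (hx' a ha).trans (act_rst _ e σ).symm⟩
  | succ k ih =>
    intro T hT hTF
    obtain ⟨S, hS, h⟩ := ih (faces (prodΔ P m) T) (finite_faces _ hT) (fun b hb => by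
      obtain ⟨i, a, ha, rfl⟩ := Set.mem_iUnion.1 hb
      exact face_mem_Fib (hTF ha) i)
    let R : Sieve V :=
      { arrows := fun W e => ∃ c, Cn f σ e (rst P e p) (k + 1) T c
        downward_closed := by
          rintro W W' e ⟨c, hc⟩ h
          exact ⟨_, (rst_rst P e h p) ▸ hc.restrict h⟩ }
    refine ⟨R, ?_, fun W e he => he⟩
    refine J.transitive hS R fun W e he => ?_
    obtain ⟨c', hc'⟩ := h e he
    obtain ⟨S', hS', h'⟩ := exists_rfill_finite hf T hT
      (fun a => Fin.cases (motive := fun _ => Sx P (k + 1) W) (rst P e a.1)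
        (fun j => c' (face (prodΔ P m) j a)))
      (fun a => act (coneθ a.2) (rst Q e σ))
      (fun a ha i j hij => by
        have hm : ∀ b : Fin (k + 2), face (prodΔ P m) b a ∈ faces (prodΔ P m) T :=
          fun b => Set.mem_iUnion.2 ⟨b, a, ha, rfl⟩
        rcases Fin.eq_zero_or_eq_succ i with rfl | ⟨i', rfl⟩
        · change face P 0 (c' (face (prodΔ P m) j a)) = face P j (rst P e a.1)
          rw [face_rst]
          exact (hc'.image (hm j)).2
        · rcases Fin.eq_zero_or_eq_succ j with rfl | ⟨j', rfl⟩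
          · exact absurd hij (by simp)
          · change face P i'.succ (c' (face (prodΔ P m) j'.succ a)) =
              face P j'.succ (Fin.cases (motive := fun _ => Sx P (k + 1) W) (rst P e a.1)
                (fun j => c' (face (prodΔ P m) j a)) (i'.succ).castSucc)
            rw [← Fin.succ_castSucc, Fin.cases_succ]
            exact hc'.compat ha i' j' (Fin.succ_le_succ_iff.1 hij))
      (fun a ha i => by
        induction i using Fin.cases with
        | zero =>
          change act (SimplexCategory.δ 0) (act (coneθ a.2) (rst Q e σ)) = fapp f (rst P e a.1)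
          rw [← act_comp, δ_zero_coneθ, fapp_rst, hTF ha]
          exact act_rst _ e σ
        | succ i =>
          change act (SimplexCategory.δ i.succ) (act (coneθ a.2) (rst Q e σ)) =
            fapp f (c' (face (prodΔ P m) i a))
          rw [← act_comp, δ_succ_coneθ,
            (hc'.image (Set.mem_iUnion.2 ⟨i, a, ha, rfl⟩)).1]
          rfl)
    refine J.superset_covering ?_ hS'
    intro W' e' he'
    choose x hx hx' using h' e' he'
    change ∃ c, Cn f σ (e' ≫ e) (rst P (e' ≫ e) p) (k + 1) T c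
    refine ⟨fun a => if ha : a ∈ T then x a ha else (P.σ 0).app (op W') (rst P e' (c' (face (prodΔ P m) 0 a))),
      fun a => rst P e' (c' a), (rst_rst P e e' p) ▸ hc'.restrict e', fun a ha => ?_⟩
    simp only [dif_pos ha]
    refine ⟨(hx a ha 0).trans (rst_rst P e e' a.1), fun i => hx a ha i.succ, ?_⟩
    rw [hx' a ha, ← rst_rst Q e e' σ]
    exact (act_rst _ e' _).symm

/-- The cone as a pair. -/
def cpair {m k : ℕ} {V W : C} (c : Sx (prodΔ P m) k V → Sx P (k + 1) W)
    (a : Sx (prodΔ P m) k V) : Sx (prodΔ P m) (k + 1) W :=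
  (c a, coneθ a.2)

lemma cpair_mem {f : P ⟶ Q} {m k : ℕ} {V W : C} {σ : Sx Q m V} {e : W ⟶ V} {p : Sx P 0 W}
    {T : Set (Sx (prodΔ P m) k V)} {c : Sx (prodΔ P m) k V → Sx P (k + 1) W} (hc : Cn f σ e p k T c)
    {a : Sx (prodΔ P m) k V} (ha : a ∈ T) : cpair c a ∈ Fib f (rst Q e σ) (k + 1) :=
  (hc.image ha).1

/-- A cycle in a fibre is locally a boundary in the fibre. -/
theorem exists_bdry_fib {f : P ⟶ Q} (hf : RFill J f) {m k : ℕ} {V : C} (σ : Sx Q m V) (p : Sx P 0 V)
    (hp : fapp f p = act (vtx0 0 m) σ) (z : Ch (prodΔ P m) k V) (hz : z ∈ Supp (Fib f σ k))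
    (hcyc : match k, z with
      | 0, z => aug (prodΔ P m) V z = 0
      | j + 1, z => bdry (prodΔ P m) j V z = 0) :
    ∃ S ∈ J V, ∀ ⦃W : C⦄ (e : W ⟶ V), S e → ∃ w ∈ Supp (Fib f (rst Q e σ) (k + 1)),
      bdry (prodΔ P m) k W w = rstCh (prodΔ P m) e z := by
  have hfin : ∃ T : Set (Sx (prodΔ P m) k V), T.Finite ∧ T ⊆ Fib f σ k ∧ z ∈ Supp T := by
    clear hcyc
    induction hz using AddSubgroup.closure_induction with
    | mem y hy =>
      obtain ⟨a, ha, rfl⟩ := hy
      exact ⟨{a}, Set.finite_singleton a, Set.singleton_subset_iff.2 ha, of_mem_supp rfl⟩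
    | zero => exact ⟨∅, Set.finite_empty, Set.empty_subset _, zero_mem _⟩
    | add y y' _ _ hy hy' =>
      obtain ⟨T, h1, h2, h3⟩ := hy
      obtain ⟨T', h1', h2', h3'⟩ := hy'
      exact ⟨T ∪ T', h1.union h1', Set.union_subset h2 h2', add_mem
        (AddSubgroup.closure_mono (Set.image_mono Set.subset_union_left) h3)
        (AddSubgroup.closure_mono (Set.image_mono Set.subset_union_right) h3')⟩
    | neg y _ hy =>
      obtain ⟨T, h1, h2, h3⟩ := hy
      exact ⟨T, h1, h2, neg_mem h3⟩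
  obtain ⟨T, hT, hTF, hzT⟩ := hfin
  obtain ⟨S, hS, h⟩ := exists_cn hf σ p hp k T hT hTF
  refine ⟨S, hS, fun W e he => ?_⟩
  obtain ⟨c, hc⟩ := h e he
  refine ⟨FreeAbelianGroup.map (cpair c) z, map_mem_supp (FreeAbelianGroup.map (cpair c)) (fun a ha => ?_) hzT, ?_⟩
  · rw [FreeAbelianGroup.map_of_apply]
    exact of_mem_supp (cpair_mem hc ha)
  cases k with
  | zero =>
    have key : bdry (prodΔ P m) 0 W (FreeAbelianGroup.map (cpair c) z) = rstCh (prodΔ P m) e z -
        aug (prodΔ P m) V z • (FreeAbelianGroup.of ((rst P e p, vtx0 0 m) : Sx (prodΔ P m) 0 W) : Ch (prodΔ P m) 0 W) := by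
      refine AddMonoidHom.eqOn_closure (f := (bdry (prodΔ P m) 0 W).comp (FreeAbelianGroup.map (cpair c)))
        (g := rstCh (prodΔ P m) e - (zmultiplesHom (Ch (prodΔ P m) 0 W)
          (FreeAbelianGroup.of ((rst P e p, vtx0 0 m) : Sx (prodΔ P m) 0 W))).comp (aug (prodΔ P m) V)) ?_ hzT
      rintro _ ⟨a, ha, rfl⟩
      change bdry (prodΔ P m) 0 W (FreeAbelianGroup.map (cpair c) (FreeAbelianGroup.of a)) =
        rstCh (prodΔ P m) e (FreeAbelianGroup.of a) - aug (prodΔ P m) V (FreeAbelianGroup.of a) • _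
      simp only [rstCh, FreeAbelianGroup.map_of_apply, bdry_of, aug, FreeAbelianGroup.lift_apply_of]
      obtain ⟨h0, h1, -⟩ := hc a ha
      have e0 : face (prodΔ P m) 0 (cpair c a) = rst (prodΔ P m) e a := Prod.ext h0 (δ_zero_coneθ a.2)
      have e1 : face (prodΔ P m) 1 (cpair c a) = ((rst P e p, vtx0 0 m) : Sx (prodΔ P m) 0 W) := Prod.ext h1 (δ_one_coneθ a.2)
      rw [Fin.sum_univ_two, e0, e1]
      simp [sub_eq_add_neg]
    rw [key, hcyc, zero_smul, sub_zero]
  | succ j =>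
    obtain ⟨c', hc', hc⟩ := hc
    have key : bdry (prodΔ P m) (j + 1) W (FreeAbelianGroup.map (cpair c) z) = rstCh (prodΔ P m) e z -
        FreeAbelianGroup.map (cpair c') (bdry (prodΔ P m) j V z) := by
      refine AddMonoidHom.eqOn_closure (f := (bdry (prodΔ P m) (j + 1) W).comp (FreeAbelianGroup.map (cpair c)))
        (g := rstCh (prodΔ P m) e - (FreeAbelianGroup.map (cpair c')).comp (bdry (prodΔ P m) j V)) ?_ hzT
      rintro _ ⟨a, ha, rfl⟩
      change bdry (prodΔ P m) (j + 1) W (FreeAbelianGroup.map (cpair c) (FreeAbelianGroup.of a)) =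
        rstCh (prodΔ P m) e (FreeAbelianGroup.of a) -
          FreeAbelianGroup.map (cpair c') (bdry (prodΔ P m) j V (FreeAbelianGroup.of a))
      simp only [rstCh, FreeAbelianGroup.map_of_apply, bdry_of, map_sum, map_zsmul]
      have e0 : face (prodΔ P m) 0 (cpair c a) = rst (prodΔ P m) e a :=
        Prod.ext (hc a ha).1 (δ_zero_coneθ a.2)
      have e1 : ∀ i : Fin (j + 2), face (prodΔ P m) i.succ (cpair c a) = cpair c' (face (prodΔ P m) i a) :=
        fun i => Prod.ext ((hc a ha).2.1 i) (δ_succ_coneθ a.2 i)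
      rw [Fin.sum_univ_succ, Fin.val_zero, pow_zero, one_smul, e0, sub_eq_add_neg, ← Finset.sum_neg_distrib]
      refine congrArg (FreeAbelianGroup.of (rst (prodΔ P m) e a) + ·) (Finset.sum_congr rfl fun i _ => ?_)
      rw [e1 i, Fin.val_succ, pow_succ, mul_neg, mul_one, neg_smul]
    rw [key, hcyc, map_zero, sub_zero]

end GrothLib.RelFill25
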