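import Groth.Agent.Lib.RelFill25.Cone
import Mathlib.AlgebraicTopology.SimplicialObject.Coskeletal
import Mathlib.CategoryTheory.Adjunction.Whiskering
import Mathlib.CategoryTheory.Sites.Sheafification

/-! # Maps between coskeletal objects which fill spheres -/

set_option autoImplicit false
set_option linter.all false
set_option backward.isDefEq.respectTransparency false
universe u

open CategoryTheory CategoryTheory.Limits Opposite Simplicial

namespace GrothLib.RelFill25

open GrothLib.Hyper19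

variable {C : Type u} [SmallCategory C]

/-- A simplex is the same as a compatible family of its faces of dimension at most `n`. -/
def IsCosk (P : SimplicialObject (Cᵒᵖ ⥤ Type u)) (n : ℕ) : Prop :=
  ∀ (k : ℕ) (U : C) (fam : ∀ l : ℕ, l ≤ n → (⦋l⦌ ⟶ ⦋k⦌) → Sx P l U),
    (∀ (l l' : ℕ) (hl : l ≤ n) (hl' : l' ≤ n) (ψ : ⦋l'⦌ ⟶ ⦋l⦌) (θ : ⦋l⦌ ⟶ ⦋k⦌),
      fam l' hl' (ψ ≫ θ) = act ψ (fam l hl θ)) →
    ∃! x : Sx P k U, ∀ (l : ℕ) (hl : l ≤ n) (θ : ⦋l⦌ ⟶ ⦋k⦌), act θ x = fam l hl θ

section Adj

variable {D : Type*} [Category D] {n : ℕ} [∀ (F : (SimplexCategory.Truncated n)ᵒᵖ ⥤ D),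
  (SimplexCategory.Truncated.inclusion n).op.HasRightKanExtension F]

/-- Maps into a coskeletal object are determined by their truncations. -/
theorem truncation_bijective (L : SimplicialObject D)
    (hL : IsIso ((SimplicialObject.coskAdj n).unit.app L)) (R : SimplicialObject D) :
    Function.Bijective (fun g : R ⟶ L => (SimplicialObject.truncation n).map g) := by
  have e : (fun g : R ⟶ L => (SimplicialObject.truncation n).map g) =
      ((SimplicialObject.coskAdj n).homEquiv R ((SimplicialObject.truncation n).obj L)).symm ∘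
        fun g => g ≫ (SimplicialObject.coskAdj n).unit.app L := by
    funext g
    refine ((Equiv.eq_symm_apply _).2 ?_)
    rw [Adjunction.homEquiv_unit]
    exact ((SimplicialObject.coskAdj n).unit.naturality g).symm
  rw [e]
  exact (Equiv.bijective _).comp ⟨fun a b h => (cancel_mono _).1 h,
    fun b => ⟨b ≫ inv ((SimplicialObject.coskAdj n).unit.app L), by simp⟩⟩

end Adj

/-- Maps are determined by their truncations when the target is coskeletal in a reflective subcategory. -/
theorem truncation_bijective_of_adj {A : Type*} [Category A] {D : Type*} [Category D] {F : A ⥤ D}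
    {G : D ⥤ A} (adj : F ⊣ G) {n : ℕ} (L : SimplicialObject D)
    (hL : ∀ R : SimplicialObject D, Function.Bijective (fun g : R ⟶ L => (SimplicialObject.truncation n).map g))
    (R : SimplicialObject A) :
    Function.Bijective (fun g : R ⟶ L ⋙ G => (SimplicialObject.truncation n).map g) := by
  let a1 := adj.whiskerRight SimplexCategoryᵒᵖ
  let a2 := adj.whiskerRight (SimplexCategory.Truncated n)ᵒᵖ
  let e1 := a1.homEquiv R L
  let e2 := a2.homEquiv ((SimplicialObject.truncation n).obj R) ((SimplicialObject.truncation n).obj L)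
  have e : (fun g : R ⟶ L ⋙ G => (SimplicialObject.truncation n).map g) =
      e2 ∘ (fun g : ((Functor.whiskeringRight SimplexCategoryᵒᵖ A D).obj F).obj R ⟶ L => (SimplicialObject.truncation (C := D) n).map g) ∘ e1.symm := by
    funext g
    obtain ⟨g', rfl⟩ := e1.surjective g
    simp only [Function.comp_apply, Equiv.symm_apply_apply]
    refine NatTrans.ext (funext fun k => ?_)
    simp only [e1, e2, a1, a2, Adjunction.homEquiv_unit, Adjunction.whiskerRight]
    rfl
  rw [e]
  exact e2.bijective.comp ((hL _).comp e1.symm.bijective)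

/-- The simplicial presheaf corepresenting simplices. -/
abbrev reprΔ (U : C) (k : ℕ) : SimplicialObject (Cᵒᵖ ⥤ Type u) :=
  prodΔ ((Functor.const SimplexCategoryᵒᵖ).obj (yoneda.obj U)) k

theorem isCosk_of_bijective {P : SimplicialObject (Cᵒᵖ ⥤ Type u)} {n : ℕ}
    (hP : ∀ R : SimplicialObject (Cᵒᵖ ⥤ Type u),
      Function.Bijective (fun g : R ⟶ P => (SimplicialObject.truncation n).map g)) : IsCosk P n := by
  intro k U fam hfam
  let μ : (SimplicialObject.truncation n).obj (reprΔ U k) ⟶ (SimplicialObject.truncation n).obj P :=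
    { app := fun l =>
        { app := fun V => TypeCat.ofHom fun a =>
            (P.obj (op ⦋l.unop.obj.len⦌)).map a.1.op (fam l.unop.obj.len l.unop.property a.2)
          naturality := fun V W h => by
            refine TypeCat.homEquiv.injective (funext fun a => ?_)
            exact Functor.map_comp_apply (P.obj (op ⦋l.unop.obj.len⦌)) a.1.op h _ }
      naturality := fun l l' ψ => by
        refine NatTrans.ext (funext fun V => TypeCat.homEquiv.injective (funext fun a => ?_))
        change (P.obj (op ⦋l'.unop.obj.len⦌)).map a.1.op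
            (fam l'.unop.obj.len l'.unop.property (ψ.unop.hom ≫ a.2)) =
          (P.map ψ.unop.hom.op).app V
            ((P.obj (op ⦋l.unop.obj.len⦌)).map a.1.op (fam l.unop.obj.len l.unop.property a.2))
        rw [hfam l.unop.obj.len l'.unop.obj.len l.unop.property l'.unop.property ψ.unop.hom a.2]
        exact (act_rst ψ.unop.hom a.1 _).symm }
  obtain ⟨⟨g, hg⟩, hinj⟩ := (⟨(hP (reprΔ U k)).2 μ, (hP (reprΔ U k)).1⟩ :
    (∃ g, (fun g : reprΔ U k ⟶ P => (SimplicialObject.truncation n).map g) g = μ) ∧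
      Function.Injective (fun g : reprΔ U k ⟶ P => (SimplicialObject.truncation n).map g))
  let pr : ∀ (l : ℕ), (⦋l⦌ ⟶ ⦋k⦌) → Sx (reprΔ U k) l U := fun l θ => ((𝟙 U : U ⟶ U), θ)
  have hnat : ∀ (g : reprΔ U k ⟶ P) (l : ℕ) (θ : ⦋l⦌ ⟶ ⦋k⦌),
      act θ (fapp g (pr k (𝟙 _))) = fapp g (pr l θ) := by
    intro g l θ
    rw [← fapp_act g θ]
    congr 1
    exact Prod.ext rfl (Category.comp_id θ)
  have hμ : ∀ (g : reprΔ U k ⟶ P), (SimplicialObject.truncation n).map g = μ →
      ∀ (l : ℕ) (hl : l ≤ n) (θ : ⦋l⦌ ⟶ ⦋k⦌), fapp g (pr l θ) = fam l hl θ := by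
    intro g hg l hl θ
    refine (congrArg (fun t => (t.app (op ⟨⦋l⦌, hl⟩)).app (op U) (pr l θ)) hg).trans ?_
    change (P.obj (op ⦋l⦌)).map (𝟙 U).op (fam l hl θ) = fam l hl θ
    rw [op_id, FunctorToTypes.map_id_apply]
  refine ⟨fapp g (pr k (𝟙 _)), fun l hl θ => (hnat g l θ).trans (hμ g hg l hl θ), ?_⟩
  intro x hx
  let gx : reprΔ U k ⟶ P :=
    { app := fun l =>
        { app := fun V => TypeCat.ofHom fun a => (P.obj l).map a.1.op (act (show l.unop ⟶ ⦋k⦌ from a.2) x)
          naturality := fun V W h => by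
            refine TypeCat.homEquiv.injective (funext fun a => ?_)
            exact Functor.map_comp_apply (P.obj l) a.1.op h _ }
      naturality := fun l l' ψ => by
        refine NatTrans.ext (funext fun V => TypeCat.homEquiv.injective (funext fun a => ?_))
        change (P.obj l').map a.1.op (act (ψ.unop ≫ a.2) x) =
          (P.map ψ).app V ((P.obj l).map a.1.op (act a.2 x))
        rw [act_comp]
        exact (act_rst ψ.unop a.1 _).symm }
  have hgx : gx = g := hinj (by
    refine Eq.trans ?_ hg.symm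
    refine NatTrans.ext (funext fun l => NatTrans.ext (funext fun V => TypeCat.homEquiv.injective (funext fun a => ?_)))
    exact congrArg (fun t => (P.obj (op ⦋l.unop.obj.len⦌)).map a.1.op t) (hx l.unop.obj.len l.unop.property a.2))
  have : fapp gx (pr k (𝟙 _)) = x := by
    change (P.obj (op ⦋k⦌)).map (𝟙 U).op (act (𝟙 ⦋k⦌) x) = x
    rw [op_id, FunctorToTypes.map_id_apply, act_id]
  rw [← this, hgx]

variable {J : GrothendieckTopology C} {P Q : SimplicialObject (Cᵒᵖ ⥤ Type u)}

lemma IsCosk.ext {n : ℕ} (hP : IsCosk P n) {k : ℕ} {U : C} {x x' : Sx P k U}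
    (h : ∀ (l : ℕ), l ≤ n → ∀ θ : ⦋l⦌ ⟶ ⦋k⦌, act θ x = act θ x') : x = x' := by
  obtain ⟨z, -, hz⟩ := hP k U (fun l _ θ => act θ x') (fun l l' _ _ ψ θ => act_comp ψ θ x')
  exact (hz x (fun l hl θ => h l hl θ)).trans (hz x' fun _ _ _ => rfl).symm

/-- An isomorphism below `n` and local surjection in degree `n` between coskeletal objects fills spheres. -/
theorem rfill_of_isCosk {f : P ⟶ Q} {n : ℕ}
    (h1 : ∀ i, i < n → ∀ U : C, Function.Bijective (fapp f : Sx P i U → Sx Q i U))
    (h2 : ∀ (U : C) (σ : Sx Q n U), ∃ S ∈ J U, ∀ ⦃V : C⦄ (g : V ⟶ U), S g →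
      ∃ x : Sx P n V, fapp f x = rst Q g σ)
    (hP : IsCosk P n) (hQ : IsCosk Q n) : RFill J f := by
  have low : ∀ (k : ℕ), k + 1 ≤ n → ∀ (U : C) (y : Fin (k + 2) → Sx P k U) (σ : Sx Q (k + 1) U),
      (∀ i, face Q i σ = fapp f (y i)) → ∃ S ∈ J U, ∀ ⦃V : C⦄ (g : V ⟶ U), S g →
        ∃ x : Sx P (k + 1) V, (∀ i, face P i x = rst P g (y i)) ∧ fapp f x = rst Q g σ := by
    intro k hk U y σ hσ
    have hx : ∃ S ∈ J U, ∀ ⦃V : C⦄ (g : V ⟶ U), S g → ∃ x : Sx P (k + 1) V, fapp f x = rst Q g σ := by
      rcases hk.lt_or_eq with hlt | heq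
      · exact ⟨⊤, J.top_mem U, fun V g _ => (h1 (k + 1) hlt V).2 _⟩
      · subst heq
        exact h2 U σ
    obtain ⟨S, hS, h⟩ := hx
    refine ⟨S, hS, fun V g hg => ?_⟩
    obtain ⟨x, hx⟩ := h g hg
    refine ⟨x, fun i => (h1 k (by omega) V).1 ?_, hx⟩
    rw [fapp_face, hx, face_rst, hσ, fapp_rst]
  refine ⟨fun U σ => ?_, fun U a b σ h0 hb => ?_, fun m U y σ hy hσ => ?_⟩
  · rcases Nat.eq_zero_or_pos n with hn | hn
    · subst hn
      exact h2 U σ
    · exact ⟨⊤, J.top_mem U, fun V g _ => (h1 0 hn V).2 _⟩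
  · rcases Nat.eq_zero_or_pos n with hn | hn
    · subst hn
      let fam : ∀ l : ℕ, l ≤ 0 → (⦋l⦌ ⟶ ⦋1⦌) → Sx P l U := fun l hl θ =>
        match l, hl, θ with
        | 0, _, θ => if θ.toOrderHom 0 = 0 then b else a
      obtain ⟨x, hx, -⟩ := hP 1 U fam (fun l l' hl hl' ψ θ => by
        obtain rfl : l = 0 := by omega
        obtain rfl : l' = 0 := by omega
        obtain rfl : ψ = 𝟙 _ := Subsingleton.elim _ _
        rw [Category.id_comp, act_id])
      have ha : face P 0 x = a := (hx 0 le_rfl (SimplexCategory.δ 0)).trans (if_neg (show ¬ ((1 : Fin 2) = 0) by decide))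
      have hb' : face P 1 x = b := (hx 0 le_rfl (SimplexCategory.δ 1)).trans (if_pos rfl)
      have hfx : fapp f x = σ := hQ.ext fun l hl θ => by
        obtain rfl : l = 0 := by omega
        rw [← fapp_act, hx 0 le_rfl θ]
        rcases (show θ.toOrderHom 0 = 0 ∨ θ.toOrderHom 0 = 1 from by
          generalize θ.toOrderHom 0 = v
          fin_cases v <;> simp) with h | h
        · have e : θ = SimplexCategory.δ 1 := by
            refine SimplexCategory.Hom.ext _ _ (OrderHom.ext _ _ (funext fun v => ?_))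
            obtain rfl : v = 0 := Fin.fin_one_eq_zero v
            exact h.trans rfl
          subst e
          exact (congrArg (fapp f) (if_pos rfl)).trans hb.symm
        · have e : θ = SimplexCategory.δ 0 := by
            refine SimplexCategory.Hom.ext _ _ (OrderHom.ext _ _ (funext fun v => ?_))
            obtain rfl : v = 0 := Fin.fin_one_eq_zero v
            exact h.trans rfl
          subst e
          exact (congrArg (fapp f) (if_neg (show ¬ ((1 : Fin 2) = 0) by decide))).trans h0.symm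
      exact ⟨⊤, J.top_mem U, fun V g _ => ⟨rst P g x, by rw [face_rst, ha], by rw [face_rst, hb'],
        by rw [fapp_rst, hfx]⟩⟩
    · obtain ⟨S, hS, h⟩ := low 0 hn U ![a, b] σ (Fin.forall_fin_two.2 ⟨h0, hb⟩)
      refine ⟨S, hS, fun V g hg => ?_⟩
      obtain ⟨x, hx, hx'⟩ := h g hg
      exact ⟨x, hx 0, hx 1, hx'⟩
  · rcases le_or_gt (m + 2) n with hm | hm
    · exact low (m + 1) hm U y σ hσ
    · have hns : ∀ {l : ℕ}, l ≤ n → ∀ θ : ⦋l⦌ ⟶ ⦋m + 2⦌, ¬ Function.Surjective θ.toOrderHom :=
        fun {l} hl θ => not_surjective_of_len_le (n := m + 1) (by simp only [SimplexCategory.len_mk]; omega) θ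
      obtain ⟨x, hx, -⟩ := hP (m + 2) U (fun l hl θ => famVal y θ (hns hl θ))
        (fun l l' hl hl' ψ θ => famVal_comp y hy ψ θ (hns hl θ) (hns hl' _))
      have hface : ∀ i, face P i x = y i := fun i => hP.ext fun l hl θ => by
        change act θ (act (SimplexCategory.δ i) x) = act θ (y i)
        rw [← act_comp, hx l hl, famVal_eq y hy _ _ i θ rfl]
      have hfx : fapp f x = σ := hQ.ext fun l hl θ => by
        obtain ⟨i, θ', rfl⟩ := SimplexCategory.eq_comp_δ_of_not_surjective θ (hns hl θ)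
        rw [act_comp, act_comp]
        refine congrArg (act θ') ?_
        exact (fapp_face f i x).symm.trans ((congrArg (fapp f) (hface i)).trans (hσ i).symm)
      exact ⟨⊤, J.top_mem U, fun V g _ => ⟨rst P g x, fun i => by rw [face_rst, hface], by rw [fapp_rst, hfx]⟩⟩

end GrothLib.RelFill25
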