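import Groth.Agent.Lib.RelFill25.Homotopy
import Groth.Agent.Lib.Hyper19.Homology

/-! # A locally trivial fibration induces isomorphisms on homology sheaves -/

set_option autoImplicit false
set_option linter.all false
set_option backward.isDefEq.respectTransparency false
universe u

open CategoryTheory CategoryTheory.Limits Opposite Simplicial

namespace GrothLib.RelFill25

open GrothLib.Hyper19

variable {C : Type u} [SmallCategory C] {J : GrothendieckTopology C}
  {P Q : SimplicialObject (Cᵒᵖ ⥤ Type u)} {f : P ⟶ Q}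

/-- Being a cycle. -/
def IsCyc (P : SimplicialObject (Cᵒᵖ ⥤ Type u)) : ∀ (n : ℕ) {U : C}, Ch P n U → Prop
  | 0, _, _ => True
  | k + 1, U, z => bdry P k U z = 0

lemma exists_lift_cycle (hf : RFill J f) {n : ℕ} {U : C} (y : Ch Q n U)
    (hy : IsCyc Q n y) :
    ∃ S ∈ J U, ∀ ⦃V : C⦄ (g : V ⟶ U), S g → ∃ z : Ch P n V,
      IsCyc P n z ∧ mapCh f z = rstCh Q g y := by
  obtain ⟨T, hT, hyT⟩ := exists_finite_support Q y
  obtain ⟨S, hS, h⟩ := exists_lifted hf n T hT
  refine ⟨S, hS, fun V g hg => ?_⟩
  obtain ⟨c, hc⟩ := h g hg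
  refine ⟨FreeAbelianGroup.map c y, ?_, ?_⟩
  · cases n with
    | zero => trivial
    | succ k =>
      obtain ⟨T', hT', c', -, hcc⟩ := hc
      have : bdry P k V (FreeAbelianGroup.map c y) = FreeAbelianGroup.map c' (bdry Q k U y) := by
        refine AddMonoidHom.eqOn_closure (f := (bdry P k V).comp (FreeAbelianGroup.map c))
          (g := (FreeAbelianGroup.map c').comp (bdry Q k U)) ?_ hyT
        rintro _ ⟨σ, hσ, rfl⟩
        simp only [AddMonoidHom.comp_apply, FreeAbelianGroup.map_of_apply, bdry_of, map_sum, map_zsmul]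
        exact Finset.sum_congr rfl fun i _ => by rw [(hcc σ hσ).2 i]
      change bdry P k V (FreeAbelianGroup.map c y) = 0
      rw [this, show bdry Q k U y = 0 from hy, map_zero]
  · refine AddMonoidHom.eqOn_closure (f := (mapCh f).comp (FreeAbelianGroup.map c)) (g := rstCh Q g) ?_ hyT
    rintro _ ⟨σ, hσ, rfl⟩
    simp only [AddMonoidHom.comp_apply, mapCh, rstCh, FreeAbelianGroup.map_of_apply]
    rw [hc.image hσ]

lemma exists_bdry_of_map_bdry (hf : RFill J f) {n : ℕ} {U : C} (z : Ch P n U)
    (hz : IsCyc P n z)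
    (w : Ch Q (n + 1) U) (hw : mapCh f z = bdry Q n U w) :
    ∃ S ∈ J U, ∀ ⦃V : C⦄ (g : V ⟶ U), S g → ∃ v, bdry P n V v = rstCh P g z := by
  obtain ⟨Tz, hTz, hzT⟩ := exists_finite_support P z
  obtain ⟨Tw, hTw, hwT⟩ := exists_finite_support Q w
  let TQ : Set (Sx Q n U) := fapp f '' Tz ∪ faces Q Tw
  have hTQ : TQ.Finite := (hTz.image _).union (finite_faces Q hTw)
  let R : Sieve U :=
    { arrows := fun V g => ∃ v, bdry P n V v = rstCh P g z
      downward_closed := by
        rintro V W g ⟨v, hv⟩ h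
        exact ⟨rstCh P h v, by rw [bdry_rstCh, hv, rstCh_rstCh]⟩ }
  refine ⟨R, ?_, fun V g hg => hg⟩
  obtain ⟨S, hS, h⟩ := exists_lifted hf n TQ hTQ
  refine J.transitive hS R fun V g hg => ?_
  obtain ⟨c, hc⟩ := h g hg
  obtain ⟨S₁, hS₁, h₁⟩ := exists_lifted_succ hf hc Tw hTw Set.subset_union_right
  refine J.transitive hS₁ _ fun W e he => ?_
  obtain ⟨c₁, -, hc₁⟩ := h₁ e he
  obtain ⟨S₂, hS₂, h₂⟩ := exists_htp hf n (e ≫ g) Tz TQ (fun σ => rst P e (c σ)) hTz
    (fun x hx => Or.inl ⟨x, hx, rfl⟩) (hc.restrict e)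
  refine J.superset_covering (fun W' e' he' => ?_) hS₂
  obtain ⟨H, hH⟩ := h₂ e' he'
  change ∃ v, bdry P n W' v = rstCh P ((e' ≫ e) ≫ g) z
  rw [Category.assoc]
  refine ⟨projH H z + rstCh P e' (FreeAbelianGroup.map c₁ w), ?_⟩
  have h1 : bdry P n W (FreeAbelianGroup.map c₁ w) =
      FreeAbelianGroup.map (fun σ => rst P e (c σ)) (bdry Q n U w) := by
    refine AddMonoidHom.eqOn_closure (f := (bdry P n W).comp (FreeAbelianGroup.map c₁))
      (g := (FreeAbelianGroup.map (fun σ => rst P e (c σ))).comp (bdry Q n U)) ?_ hwT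
    rintro _ ⟨σ, hσ, rfl⟩
    simp only [AddMonoidHom.comp_apply, FreeAbelianGroup.map_of_apply, bdry_of, map_sum, map_zsmul]
    exact Finset.sum_congr rfl fun i _ => by rw [hc₁ σ hσ i]
  have h2 : bdry P n W' (projH H z) = rstCh P (e' ≫ e ≫ g) z -
      FreeAbelianGroup.map (fun σ => rst P e' (rst P e (c σ))) (mapCh f z) := by
    cases n with
    | zero => exact bdry_projH_zero hH hzT
    | succ k => exact bdry_projH_succ hH hzT hz
  rw [map_add, bdry_rstCh, h1, h2, hw, ← FreeAbelianGroup.map_comp_apply]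
  exact sub_add_cancel _ _

variable (P Q) in
/-- The induced map of chain complexes of presheaves. -/
noncomputable abbrev pmap (f : P ⟶ Q) : pcx P ⟶ pcx Q :=
  (AlgebraicTopology.alternatingFaceMapComplex _).map (Functor.whiskerRight f freeP)

lemma pmap_apply (f : P ⟶ Q) {n : ℕ} {U : C} (z : Ch P n U) :
    (show Ch Q n U from ((pmap P Q f).f n).app (op U) z) = mapCh f z := rfl

lemma exists_cycle (P : SimplicialObject (Cᵒᵖ ⥤ Type u)) {n : ℕ} {U : C} (z : Ch P n U)
    (hz : IsCyc P n z) :
    ∃ c : ((pcx P).cycles n).obj (op U), ((pcx P).iCycles n).app (op U) c = z := by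
  cases n with
  | zero =>
    have : IsIso ((pcx P).iCycles 0) := (pcx P).isIso_iCycles 0 0 (by simp) (by simp)
    exact (ConcreteCategory.bijective_of_isIso (((pcx P).iCycles 0).app (op U))).2 z
  | succ k =>
    have hex : (ShortComplex.mk ((pcx P).iCycles (k + 1)) ((pcx P).d (k + 1) k)
        ((pcx P).iCycles_d (k + 1) k)).Exact :=
      ShortComplex.exact_of_f_is_kernel _ ((pcx P).cyclesIsKernel (k + 1) k
        ((ComplexShape.down ℕ).next_eq' rfl))
    have := hex.map ((evaluation Cᵒᵖ AddCommGrpCat.{u}).obj (op U))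
    rw [ShortComplex.ab_exact_iff] at this
    exact this z ((pcx_d_apply P k U z).trans hz)

lemma isCycle_iCycles (P : SimplicialObject (Cᵒᵖ ⥤ Type u)) {n : ℕ} {U : C}
    (c : ((pcx P).cycles n).obj (op U)) :
    IsCyc P n (show Ch P n U from ((pcx P).iCycles n).app (op U) c) := by
  cases n with
  | zero => trivial
  | succ k =>
    change bdry P k U _ = 0
    rw [← pcx_d_apply]
    exact congrArg (fun t : (pcx P).cycles (k + 1) ⟶ (pcx P).X k => t.app (op U) c)
      ((pcx P).iCycles_d (k + 1) k)

lemma iCycles_cyclesMap (f : P ⟶ Q) {n : ℕ} {U : C} (c : ((pcx P).cycles n).obj (op U)) :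
    ((pcx Q).iCycles n).app (op U) ((HomologicalComplex.cyclesMap (pmap P Q f) n).app (op U) c) =
      ((pmap P Q f).f n).app (op U) (((pcx P).iCycles n).app (op U) c) :=
  congrArg (fun t : (pcx P).cycles n ⟶ (pcx Q).X n => t.app (op U) c)
    (HomologicalComplex.cyclesMap_i (pmap P Q f) n)

lemma homologyπ_map (f : P ⟶ Q) {n : ℕ} {U : C} (c : ((pcx P).cycles n).obj (op U)) :
    (HomologicalComplex.homologyMap (pmap P Q f) n).app (op U) (((pcx P).homologyπ n).app (op U) c) =
      ((pcx Q).homologyπ n).app (op U) ((HomologicalComplex.cyclesMap (pmap P Q f) n).app (op U) c) :=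
  congrArg (fun t : (pcx P).cycles n ⟶ (pcx Q).homology n => t.app (op U) c)
    (HomologicalComplex.homologyπ_naturality (pmap P Q f) n)

lemma exists_toCycles_preimage (Q : SimplicialObject (Cᵒᵖ ⥤ Type u)) {n : ℕ} {U : C}
    (c : ((pcx Q).cycles n).obj (op U)) (h : ((pcx Q).homologyπ n).app (op U) c = 0) :
    ∃ w : Ch Q (n + 1) U, (show Ch Q n U from ((pcx Q).iCycles n).app (op U) c) = bdry Q n U w := by
  have hex : (ShortComplex.mk ((pcx Q).toCycles (n + 1) n) ((pcx Q).homologyπ n)
      ((pcx Q).toCycles_comp_homologyπ (n + 1) n)).Exact :=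
    ShortComplex.exact_of_g_is_cokernel _ ((pcx Q).homologyIsCokernel (n + 1) n (by simp))
  have := hex.map ((evaluation Cᵒᵖ AddCommGrpCat.{u}).obj (op U))
  rw [ShortComplex.ab_exact_iff] at this
  obtain ⟨w, hw⟩ := this c h
  refine ⟨w, ?_⟩
  rw [← pcx_d_apply]
  refine Eq.trans ?_ (congrArg (fun t : (pcx Q).X (n + 1) ⟶ (pcx Q).X n => t.app (op U) w)
    ((pcx Q).toCycles_i (n + 1) n))
  exact congrArg (((pcx Q).iCycles n).app (op U)) hw.symm

theorem isLocallySurjective_homologyMap (hf : RFill J f) (n : ℕ) :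
    Presheaf.IsLocallySurjective J (HomologicalComplex.homologyMap (pmap P Q f) n) where
  imageSieve_mem {U} s := by
    obtain ⟨c, rfl⟩ := exists_rep Q n U s
    obtain ⟨S, hS, h⟩ := exists_lift_cycle hf _ (isCycle_iCycles Q c)
    refine J.superset_covering (fun V g hg => ?_) hS
    obtain ⟨z, hz, hzy⟩ := h g hg
    obtain ⟨d, hd⟩ := exists_cycle P z hz
    refine ⟨((pcx P).homologyπ n).app (op V) d, ?_⟩
    rw [homologyπ_map, ← NatTrans.naturality_apply ((pcx Q).homologyπ n) g.op c]
    congr 1
    apply iCycles_injective Q n V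
    rw [iCycles_cyclesMap, hd]
    refine hzy.trans ?_
    exact (NatTrans.naturality_apply ((pcx Q).iCycles n) g.op c).symm

theorem isLocallyInjective_homologyMap (hf : RFill J f) (n : ℕ) :
    Presheaf.IsLocallyInjective J (HomologicalComplex.homologyMap (pmap P Q f) n) where
  equalizerSieve_mem {U} x y h := by
    obtain ⟨U⟩ := U
    obtain ⟨c, hc⟩ := exists_rep P n U (x - y)
    have h0 : ((pcx Q).homologyπ n).app (op U)
        ((HomologicalComplex.cyclesMap (pmap P Q f) n).app (op U) c) = 0 := by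
      rw [← homologyπ_map, hc, map_sub, h, sub_self]
    obtain ⟨w, hw⟩ := exists_toCycles_preimage Q _ h0
    obtain ⟨S, hS, h'⟩ := exists_class_eq_zero J P n c
      (exists_bdry_of_map_bdry hf _ (isCycle_iCycles P c) w ((iCycles_cyclesMap f c).symm.trans hw))
    refine J.superset_covering (fun V g hg => ?_) hS
    have := h' g hg
    rw [hc, map_sub] at this
    exact sub_eq_zero.1 this

/-- The induced map on homology sheaves is an isomorphism. -/
theorem isIso_map_homologyMap (hf : RFill J f) (n : ℕ) :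
    IsIso ((presheafToSheaf J AddCommGrpCat.{u}).map (HomologicalComplex.homologyMap (pmap P Q f) n)) := by
  have := isLocallyInjective_homologyMap hf n
  have := isLocallySurjective_homologyMap hf n
  exact (J.W_iff_isIso_map_of_adjunction (sheafificationAdjunction J AddCommGrpCat.{u}) _).1
    (J.W_of_isLocallyBijective _)

variable (J) in
/-- The induced map of chain complexes of sheaves. -/
noncomputable abbrev smap (f : P ⟶ Q) : scx J P ⟶ scx J Q :=
  (AlgebraicTopology.alternatingFaceMapComplex _).map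
    (Functor.whiskerRight (Functor.whiskerRight f freeP) (presheafToSheaf J AddCommGrpCat.{u}))

lemma map_scx_d (P : SimplicialObject (Cᵒᵖ ⥤ Type u)) (j : ℕ) :
    (scx J P).d (j + 1) j = (presheafToSheaf J AddCommGrpCat.{u}).map ((pcx P).d (j + 1) j) := by
  rw [AlgebraicTopology.alternatingFaceMapComplex_obj_d, AlgebraicTopology.alternatingFaceMapComplex_obj_d,
    AlgebraicTopology.AlternatingFaceMapComplex.objD, AlgebraicTopology.AlternatingFaceMapComplex.objD,
    Functor.map_sum]
  refine Finset.sum_congr rfl fun i _ => ?_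
  rw [Functor.map_zsmul]
  rfl

variable (J) in
/-- Sheafification commutes with the chain complexes. -/
noncomputable def scxIso (P : SimplicialObject (Cᵒᵖ ⥤ Type u)) :
    scx J P ≅ ((presheafToSheaf J AddCommGrpCat.{u}).mapHomologicalComplex _).obj (pcx P) :=
  HomologicalComplex.Hom.isoOfComponents (fun _ => Iso.refl _) (fun i j hij => by
    obtain rfl : j + 1 = i := hij
    refine (Category.id_comp _).trans (Eq.trans ?_ (Category.comp_id _).symm)
    exact (map_scx_d P j).symm)

theorem isIso_smap_homologyMap (hf : RFill J f) (n : ℕ) :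
    IsIso (HomologicalComplex.homologyMap (smap J f) n) := by
  haveI := Functor.preservesHomologyOfExact (presheafToSheaf J AddCommGrpCat.{u})
  let F := presheafToSheaf J AddCommGrpCat.{u}
  have hsq : smap J f ≫ (scxIso J Q).hom = (scxIso J P).hom ≫ (F.mapHomologicalComplex _).map (pmap P Q f) := by
    ext i : 1
    exact (Category.comp_id _).trans (Category.id_comp _).symm
  haveI : IsIso (HomologicalComplex.homologyMap ((F.mapHomologicalComplex _).map (pmap P Q f)) n) := by
    have := isIso_map_homologyMap hf n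
    let φ := (HomologicalComplex.shortComplexFunctor (Cᵒᵖ ⥤ AddCommGrpCat.{u}) (ComplexShape.down ℕ) n).map (pmap P Q f)
    haveI : IsIso (F.map (ShortComplex.homologyMap φ)) := this
    haveI : IsIso (ShortComplex.homologyMap (F.mapShortComplex.map φ) ≫ (((pcx Q).sc n).mapHomologyIso F).hom) := by
      rw [ShortComplex.mapHomologyIso_hom_naturality φ F]
      infer_instance
    exact IsIso.of_isIso_comp_right (ShortComplex.homologyMap (F.mapShortComplex.map φ))
      (((pcx Q).sc n).mapHomologyIso F).hom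
  haveI : IsIso (HomologicalComplex.homologyMap (smap J f) n ≫
      HomologicalComplex.homologyMap (scxIso J Q).hom n) := by
    rw [← HomologicalComplex.homologyMap_comp, hsq, HomologicalComplex.homologyMap_comp]
    infer_instance
  exact IsIso.of_isIso_comp_right _ (HomologicalComplex.homologyMap (scxIso J Q).hom n)

end GrothLib.RelFill25
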