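import Groth.Agent.Lib.RelFill25.Cone

/-! # The homotopy between the identity and a lift -/

set_option autoImplicit false
set_option linter.all false
set_option backward.isDefEq.respectTransparency false
universe u

open CategoryTheory Opposite Simplicial

namespace GrothLib.RelFill25

open GrothLib.Hyper19

variable {C : Type u} [SmallCategory C] {J : GrothendieckTopology C}
  {P Q : SimplicialObject (Cᵒᵖ ⥤ Type u)}

lemma mapCh_pushΔ_comp {a b d k : ℕ} {U : C} (θ : ⦋a⦌ ⟶ ⦋b⦌) (ψ : ⦋b⦌ ⟶ ⦋d⦌)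
    (z : Ch (prodΔ P a) k U) :
    mapCh (pushΔ P ψ) (mapCh (pushΔ P θ) z) = mapCh (pushΔ P (θ ≫ ψ)) z := by
  rw [← FreeAbelianGroup.map_comp_apply]
  exact congrArg (fun t => FreeAbelianGroup.map t z) (funext fun x => Prod.ext rfl (Category.assoc x.2 θ ψ))

lemma mapCh_projΔ_pushΔ {a b k : ℕ} {U : C} (θ : ⦋a⦌ ⟶ ⦋b⦌) (z : Ch (prodΔ P a) k U) :
    mapCh (projΔ P b) (mapCh (pushΔ P θ) z) = mapCh (projΔ P a) z := by
  rw [← FreeAbelianGroup.map_comp_apply]
  rfl

/-- Apply a homotopy on the first factor and push forward along the second. -/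
noncomputable def lmap {n m : ℕ} {U V : C} (H : Sx P n U → Ch (prodΔ P n) (n + 1) V) :
    Ch (prodΔ P m) n U →+ Ch (prodΔ P m) (n + 1) V :=
  FreeAbelianGroup.lift fun a => mapCh (pushΔ P (show ⦋n⦌ ⟶ ⦋m⦌ from a.2)) (H a.1)

lemma lmap_of {n m : ℕ} {U V : C} (H : Sx P n U → Ch (prodΔ P n) (n + 1) V) (a : Sx (prodΔ P m) n U) :
    lmap H (FreeAbelianGroup.of a) = mapCh (pushΔ P (show ⦋n⦌ ⟶ ⦋m⦌ from a.2)) (H a.1) :=
  FreeAbelianGroup.lift_apply_of _ _

lemma mapCh_lmap {n m d : ℕ} {U V : C} (H : Sx P n U → Ch (prodΔ P n) (n + 1) V) (ψ : ⦋m⦌ ⟶ ⦋d⦌)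
    (u : Ch (prodΔ P m) n U) :
    mapCh (pushΔ P ψ) (lmap H u) = lmap H (mapCh (pushΔ P ψ) u) := by
  suffices h : (mapCh (pushΔ P ψ)).comp (lmap H) = (lmap (m := d) H).comp (mapCh (pushΔ P ψ)) from
    DFunLike.congr_fun h u
  refine FreeAbelianGroup.lift_ext _ _ fun a => ?_
  simp only [AddMonoidHom.comp_apply, lmap_of, mapCh, FreeAbelianGroup.map_of_apply]
  exact mapCh_pushΔ_comp _ _ _

/-- A simplex with the identity. -/
def idPair {n : ℕ} {U : C} (x : Sx P n U) : Sx (prodΔ P n) n U := (x, 𝟙 ⦋n⦌)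

/-- The operation of replacing a simplex by its lift. -/
def liftPair (f : P ⟶ Q) {n m : ℕ} {U V : C} (c : Sx Q n U → Sx P n V) (a : Sx (prodΔ P m) n U) :
    Sx (prodΔ P m) n V :=
  (c (fapp f a.1), a.2)

/-- A homotopy on `T` between restriction and lifting. -/
def Htp (f : P ⟶ Q) : ∀ (n : ℕ) {U V : C} (g : V ⟶ U) (T : Set (Sx P n U)) (c : Sx Q n U → Sx P n V)
    (H : Sx P n U → Ch (prodΔ P n) (n + 1) V), Prop
  | 0, _, _, g, T, c, H => ∀ x ∈ T, fapp f (c (fapp f x)) = rst Q g (fapp f x) ∧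
      H x ∈ Supp (Fib f (rst Q g (fapp f x)) 1) ∧
      bdry (prodΔ P 0) 0 _ (H x) = rstCh (prodΔ P 0) g (FreeAbelianGroup.of (idPair x)) -
        FreeAbelianGroup.map (liftPair f c) (FreeAbelianGroup.of (idPair x))
  | n + 1, _, _, g, T, c, H => ∃ T', faces P T ⊆ T' ∧ ∃ c' H', Htp f n g T' c' H' ∧
      ∀ x ∈ T, fapp f (c (fapp f x)) = rst Q g (fapp f x) ∧
        (∀ i : Fin (n + 2), face P i (c (fapp f x)) = c' (fapp f (face P i x))) ∧
        H x ∈ Supp (Fib f (rst Q g (fapp f x)) (n + 2)) ∧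
        bdry (prodΔ P (n + 1)) (n + 1) _ (H x) =
          rstCh (prodΔ P (n + 1)) g (FreeAbelianGroup.of (idPair x)) -
            FreeAbelianGroup.map (liftPair f c) (FreeAbelianGroup.of (idPair x)) -
            lmap H' (bdry (prodΔ P (n + 1)) n _ (FreeAbelianGroup.of (idPair x)))

lemma rst_mem_Fib {f : P ⟶ Q} {m k : ℕ} {V W : C} (h : W ⟶ V) {σ : Sx Q m V} {z : Ch (prodΔ P m) k V}
    (hz : z ∈ Supp (Fib f σ k)) : rstCh (prodΔ P m) h z ∈ Supp (Fib f (rst Q h σ) k) := by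
  refine map_mem_supp _ (fun a ha => ?_) hz
  rw [FreeAbelianGroup.map_of_apply]
  refine of_mem_supp ?_
  change fapp f (rst P h a.1) = act a.2 (rst Q h σ)
  rw [fapp_rst, show fapp f a.1 = act a.2 σ from ha]
  exact (act_rst _ h σ).symm

lemma rstCh_lmap {n m : ℕ} {U V W : C} (h : W ⟶ V) (H : Sx P n U → Ch (prodΔ P n) (n + 1) V)
    (u : Ch (prodΔ P m) n U) :
    rstCh (prodΔ P m) h (lmap H u) = lmap (fun x => rstCh (prodΔ P n) h (H x)) u := by
  suffices e : (rstCh (prodΔ P m) h).comp (lmap H) = lmap (fun x => rstCh (prodΔ P n) h (H x)) from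
    DFunLike.congr_fun e u
  refine FreeAbelianGroup.lift_ext _ _ fun a => ?_
  simp only [AddMonoidHom.comp_apply, lmap_of]
  exact (mapCh_rstCh _ h _).symm

lemma rstCh_liftPair {f : P ⟶ Q} {n m : ℕ} {U V W : C} (h : W ⟶ V) (c : Sx Q n U → Sx P n V)
    (u : Ch (prodΔ P m) n U) :
    rstCh (prodΔ P m) h (FreeAbelianGroup.map (liftPair f c) u) =
      FreeAbelianGroup.map (liftPair f (fun σ => rst P h (c σ))) u := by
  rw [← FreeAbelianGroup.map_comp_apply]
  rfl

lemma Htp.restrict {f : P ⟶ Q} {n : ℕ} : ∀ {U V W : C} {g : V ⟶ U} {T : Set (Sx P n U)}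
    {c : Sx Q n U → Sx P n V} {H : Sx P n U → Ch (prodΔ P n) (n + 1) V}, Htp f n g T c H →
      ∀ h : W ⟶ V, Htp f n (h ≫ g) T (fun σ => rst P h (c σ)) (fun x => rstCh (prodΔ P n) h (H x)) := by
  induction n with
  | zero =>
    intro U V W g T c H hH h x hx
    obtain ⟨h1, h2, h3⟩ := hH x hx
    refine ⟨by rw [fapp_rst, h1, rst_rst], (rst_rst Q g h (fapp f x)) ▸ rst_mem_Fib h h2, ?_⟩
    rw [bdry_rstCh, h3, map_sub, rstCh_rstCh, rstCh_liftPair]
  | succ n ih =>
    intro U V W g T c H hH h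
    obtain ⟨T', hT', c', H', hH', hH⟩ := hH
    refine ⟨T', hT', fun σ => rst P h (c' σ), fun x => rstCh (prodΔ P n) h (H' x), ih hH' h, fun x hx => ?_⟩
    obtain ⟨h1, h2, h3, h4⟩ := hH x hx
    refine ⟨by rw [fapp_rst, h1, rst_rst], fun i => by rw [face_rst, h2 i],
      (rst_rst Q g h (fapp f x)) ▸ rst_mem_Fib h h3, ?_⟩
    rw [bdry_rstCh, h4, map_sub, map_sub, rstCh_rstCh, rstCh_liftPair, rstCh_lmap]

/-- The lift as a map of chains on pairs commutes with the boundary. -/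
lemma bdry_liftPair {f : P ⟶ Q} {n m : ℕ} {U V : C} {T : Set (Sx P (n + 1) U)}
    {c : Sx Q (n + 1) U → Sx P (n + 1) V} {c' : Sx Q n U → Sx P n V}
    (h : ∀ x ∈ T, ∀ i : Fin (n + 2), face P i (c (fapp f x)) = c' (fapp f (face P i x)))
    (a : Sx (prodΔ P m) (n + 1) U) (ha : a.1 ∈ T) :
    bdry (prodΔ P m) n V (FreeAbelianGroup.map (liftPair f c) (FreeAbelianGroup.of a)) =
      FreeAbelianGroup.map (liftPair f c') (bdry (prodΔ P m) n U (FreeAbelianGroup.of a)) := by
  simp only [FreeAbelianGroup.map_of_apply, bdry_of, map_sum, map_zsmul]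
  refine Finset.sum_congr rfl fun i _ => ?_
  congr 2
  exact Prod.ext (h _ ha i) rfl

lemma bdry_lmap_zero {f : P ⟶ Q} {U V : C} {g : V ⟶ U} {T : Set (Sx P 0 U)} {c : Sx Q 0 U → Sx P 0 V}
    {H : Sx P 0 U → Ch (prodΔ P 0) 1 V} (hH : Htp f 0 g T c H) {m : ℕ} (u : Ch (prodΔ P m) 0 U)
    (hu : u ∈ Supp {a : Sx (prodΔ P m) 0 U | a.1 ∈ T}) :
    bdry (prodΔ P m) 0 V (lmap H u) = rstCh (prodΔ P m) g u - FreeAbelianGroup.map (liftPair f c) u := by
  refine AddMonoidHom.eqOn_closure (f := (bdry (prodΔ P m) 0 V).comp (lmap H))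
    (g := rstCh (prodΔ P m) g - FreeAbelianGroup.map (liftPair f c)) ?_ hu
  rintro _ ⟨a, ha, rfl⟩
  change bdry (prodΔ P m) 0 V (lmap H (FreeAbelianGroup.of a)) = rstCh (prodΔ P m) g (FreeAbelianGroup.of a) -
    FreeAbelianGroup.map (liftPair f c) (FreeAbelianGroup.of a)
  rw [lmap_of, bdry_mapCh, (hH a.1 ha).2.2, map_sub]
  simp only [rstCh, mapCh, FreeAbelianGroup.map_of_apply]
  congr 2
  · exact Prod.ext rfl (Category.id_comp _)
  · exact Prod.ext rfl (Category.id_comp _)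

lemma bdry_lmap_succ {f : P ⟶ Q} {n : ℕ} {U V : C} {g : V ⟶ U} {T : Set (Sx P (n + 1) U)}
    {c : Sx Q (n + 1) U → Sx P (n + 1) V} {H : Sx P (n + 1) U → Ch (prodΔ P (n + 1)) (n + 2) V}
    {H' : Sx P n U → Ch (prodΔ P n) (n + 1) V}
    (hH : ∀ x ∈ T, bdry (prodΔ P (n + 1)) (n + 1) V (H x) =
      rstCh (prodΔ P (n + 1)) g (FreeAbelianGroup.of (idPair x)) -
        FreeAbelianGroup.map (liftPair f c) (FreeAbelianGroup.of (idPair x)) -
        lmap H' (bdry (prodΔ P (n + 1)) n U (FreeAbelianGroup.of (idPair x))))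
    {m : ℕ} (u : Ch (prodΔ P m) (n + 1) U) (hu : u ∈ Supp {a : Sx (prodΔ P m) (n + 1) U | a.1 ∈ T}) :
    bdry (prodΔ P m) (n + 1) V (lmap H u) =
      rstCh (prodΔ P m) g u - FreeAbelianGroup.map (liftPair f c) u - lmap H' (bdry (prodΔ P m) n U u) := by
  refine AddMonoidHom.eqOn_closure (f := (bdry (prodΔ P m) (n + 1) V).comp (lmap H))
    (g := rstCh (prodΔ P m) g - FreeAbelianGroup.map (liftPair f c) - (lmap H').comp (bdry (prodΔ P m) n U)) ?_ hu
  rintro _ ⟨a, ha, rfl⟩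
  change bdry (prodΔ P m) (n + 1) V (lmap H (FreeAbelianGroup.of a)) =
    rstCh (prodΔ P m) g (FreeAbelianGroup.of a) - FreeAbelianGroup.map (liftPair f c) (FreeAbelianGroup.of a) -
      lmap H' (bdry (prodΔ P m) n U (FreeAbelianGroup.of a))
  have hid : mapCh (pushΔ P (show ⦋n + 1⦌ ⟶ ⦋m⦌ from a.2)) (FreeAbelianGroup.of (idPair a.1)) =
      (FreeAbelianGroup.of a : Ch (prodΔ P m) (n + 1) U) := by
    rw [mapCh, FreeAbelianGroup.map_of_apply]
    exact congrArg _ (Prod.ext rfl (Category.id_comp _))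
  rw [lmap_of, bdry_mapCh, hH a.1 ha, map_sub, map_sub, mapCh_lmap, ← bdry_mapCh, hid, mapCh_rstCh, hid]
  congr 2
  simp only [mapCh, FreeAbelianGroup.map_of_apply]
  exact congrArg _ (Prod.ext rfl (Category.id_comp _))

/-- Finitely many cycles in fibres become boundaries on a common covering. -/
lemma exists_bdry_fib_finite {f : P ⟶ Q} {m k : ℕ} {V : C} {ι : Type*} (T : Set ι) (hT : T.Finite)
    (σ : ι → Sx Q m V) (z : ι → Ch (prodΔ P m) k V)
    (h : ∀ a ∈ T, ∃ S ∈ J V, ∀ ⦃W : C⦄ (e : W ⟶ V), S e → ∃ w ∈ Supp (Fib f (rst Q e (σ a)) (k + 1)),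
      bdry (prodΔ P m) k W w = rstCh (prodΔ P m) e (z a)) :
    ∃ S ∈ J V, ∀ ⦃W : C⦄ (e : W ⟶ V), S e → ∀ a ∈ T, ∃ w ∈ Supp (Fib f (rst Q e (σ a)) (k + 1)),
      bdry (prodΔ P m) k W w = rstCh (prodΔ P m) e (z a) := by
  induction T, hT using Set.Finite.induction_on with
  | empty => exact ⟨⊤, J.top_mem _, fun W e _ a ha => absurd ha (Set.notMem_empty a)⟩
  | @insert a T _ _ ih =>
    obtain ⟨S₁, h₁, h₁'⟩ := ih fun b hb => h b (Set.mem_insert_of_mem a hb)
    obtain ⟨S₂, h₂, h₂'⟩ := h a (Set.mem_insert a T)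
    refine ⟨S₁ ⊓ S₂, J.intersection_covering h₁ h₂, fun W e he b hb => ?_⟩
    rcases hb with rfl | hb
    · exact h₂' e he.2
    · exact h₁' e he.1 b hb

variable {f : P ⟶ Q}

lemma rst_idPair_mem {n : ℕ} {U V : C} (g : V ⟶ U) (x : Sx P n U) :
    rst (prodΔ P n) g (idPair x) ∈ Fib f (rst Q g (fapp f x)) n := by
  change fapp f (rst P g x) = act (𝟙 ⦋n⦌) (rst Q g (fapp f x))
  rw [act_id, fapp_rst]

lemma liftPair_idPair_mem {n : ℕ} {U V : C} {g : V ⟶ U} {c : Sx Q n U → Sx P n V} {x : Sx P n U}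
    (h : fapp f (c (fapp f x)) = rst Q g (fapp f x)) :
    liftPair f c (idPair x) ∈ Fib f (rst Q g (fapp f x)) n := by
  change fapp f (c (fapp f x)) = act (𝟙 ⦋n⦌) (rst Q g (fapp f x))
  rw [act_id, h]

/-- Homotopies exist locally. -/
theorem exists_htp (hf : RFill J f) : ∀ (n : ℕ) {U V : C} (g : V ⟶ U) (T : Set (Sx P n U))
    (TQ : Set (Sx Q n U)) (c : Sx Q n U → Sx P n V), T.Finite → (∀ x ∈ T, fapp f x ∈ TQ) →
    Lifted f n g TQ c →
    ∃ S ∈ J V, ∀ ⦃W : C⦄ (e : W ⟶ V), S e → ∃ H, Htp f n (e ≫ g) T (fun σ => rst P e (c σ)) H := by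
  classical
  intro n
  induction n with
  | zero =>
    intro U V g T TQ c hT hTQ hc
    have him : ∀ x ∈ T, fapp f (c (fapp f x)) = rst Q g (fapp f x) := fun x hx => hc.image (hTQ x hx)
    let z : Sx P 0 U → Ch (prodΔ P 0) 0 V := fun x =>
      rstCh (prodΔ P 0) g (FreeAbelianGroup.of (idPair x)) -
        FreeAbelianGroup.map (liftPair f c) (FreeAbelianGroup.of (idPair x))
    obtain ⟨S, hS, h⟩ := exists_bdry_fib_finite (f := f) T hT (fun x => rst Q g (fapp f x)) z fun x hx => by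
      refine exists_bdry_fib hf _ (rst P g x) ?_ (z x) ?_ ?_
      · rw [fapp_rst]
        refine (act_id _).symm.trans ?_
        congr 1
        refine SimplexCategory.Hom.ext _ _ (OrderHom.ext _ _ (funext fun a => ?_))
        exact Subsingleton.elim (α := Fin 1) _ _
      · simp only [z, rstCh, FreeAbelianGroup.map_of_apply]
        exact sub_mem (of_mem_supp (rst_idPair_mem g x)) (of_mem_supp (liftPair_idPair_mem (him x hx)))
      · simp [z, rstCh, aug]
    refine ⟨S, hS, fun W e he => ?_⟩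
    choose w hw hw' using h e he
    refine ⟨fun x => if hx : x ∈ T then w x hx else 0, fun x hx => ?_⟩
    simp only [dif_pos hx]
    refine ⟨by rw [fapp_rst, him x hx, rst_rst], (rst_rst Q g e (fapp f x)) ▸ hw x hx, ?_⟩
    rw [hw' x hx]
    simp only [z, map_sub, rstCh_rstCh, rstCh_liftPair]
  | succ n ih =>
    intro U V g T TQ c hT hTQ hc
    obtain ⟨TQ', hTQ', c', hc', hcc⟩ := hc
    have hfaces : ∀ y ∈ faces P T, fapp f y ∈ TQ' := by
      intro y hy
      obtain ⟨i, x, hx, rfl⟩ := Set.mem_iUnion.1 hy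
      rw [fapp_face]
      exact hTQ' (Set.mem_iUnion.2 ⟨i, _, hTQ x hx, rfl⟩)
    obtain ⟨S, hS, h⟩ := ih g (faces P T) TQ' c' (finite_faces P hT) hfaces hc'
    let R : Sieve V :=
      { arrows := fun W e => ∃ H, Htp f (n + 1) (e ≫ g) T (fun σ => rst P e (c σ)) H
        downward_closed := by
          rintro W W' e ⟨H, hH⟩ h
          refine ⟨fun x => rstCh (prodΔ P (n + 1)) h (H x), ?_⟩
          have := hH.restrict h
          simp only [rst_rst, Category.assoc] at this ⊢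
          exact this }
    refine ⟨R, ?_, fun W e he => he⟩
    refine J.transitive hS R fun W e he => ?_
    obtain ⟨H', hH'⟩ := h e he
    let c₁ : Sx Q (n + 1) U → Sx P (n + 1) W := fun σ => rst P e (c σ)
    let c₁' : Sx Q n U → Sx P n W := fun σ => rst P e (c' σ)
    have him : ∀ x ∈ T, fapp f (c₁ (fapp f x)) = rst Q (e ≫ g) (fapp f x) := fun x hx => by
      rw [fapp_rst, (hcc _ (hTQ x hx)).1, rst_rst]
    have hfc : ∀ x ∈ T, ∀ i : Fin (n + 2), face P i (c₁ (fapp f x)) = c₁' (fapp f (face P i x)) :=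
      fun x hx i => by rw [face_rst, (hcc _ (hTQ x hx)).2 i, fapp_face]
    let z : Sx P (n + 1) U → Ch (prodΔ P (n + 1)) (n + 1) W := fun x =>
      rstCh (prodΔ P (n + 1)) (e ≫ g) (FreeAbelianGroup.of (idPair x)) -
        FreeAbelianGroup.map (liftPair f c₁) (FreeAbelianGroup.of (idPair x)) -
        lmap H' (bdry (prodΔ P (n + 1)) n U (FreeAbelianGroup.of (idPair x)))
    obtain ⟨S', hS', h'⟩ := exists_bdry_fib_finite (f := f) T hT (fun x => rst Q (e ≫ g) (fapp f x)) z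
      fun x hx => by
        have hx' : ∀ i, face P i x ∈ faces P T := fun i => Set.mem_iUnion.2 ⟨i, x, hx, rfl⟩
        refine exists_bdry_fib hf _ (act (vtx0 0 (n + 1)) (rst P (e ≫ g) x)) ?_ (z x) ?_ ?_
        · rw [fapp_act, fapp_rst]
        · simp only [z, rstCh, FreeAbelianGroup.map_of_apply, bdry_of, map_sum, map_zsmul, lmap_of]
          refine sub_mem (sub_mem (of_mem_supp (rst_idPair_mem _ x))
            (of_mem_supp (liftPair_idPair_mem (him x hx)))) ?_
          refine AddSubgroup.sum_mem _ fun i _ => AddSubgroup.zsmul_mem _ ?_ _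
          have hsupp : H' (face P i x) ∈ Supp (Fib f (rst Q (e ≫ g) (fapp f (face P i x))) (n + 1)) := by
            cases n with
            | zero => exact (hH' _ (hx' i)).2.1
            | succ k => obtain ⟨_, _, _, _, _, h0⟩ := hH'; exact (h0 _ (hx' i)).2.2.1
          refine map_mem_supp (mapCh (pushΔ P (show ⦋n⦌ ⟶ ⦋n + 1⦌ from (face (prodΔ P (n + 1)) i (idPair x)).2)))
            (fun a ha => ?_) hsupp
          rw [mapCh, FreeAbelianGroup.map_of_apply]
          refine of_mem_supp ?_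
          change fapp f a.1 = act (a.2 ≫ SimplexCategory.δ i ≫ 𝟙 ⦋n + 1⦌) (rst Q (e ≫ g) (fapp f x))
          rw [show fapp f a.1 = act a.2 (rst Q (e ≫ g) (fapp f (face P i x))) from ha, Category.comp_id,
            act_comp, fapp_face, ← face_rst]
          rfl
        · have hu : bdry (prodΔ P (n + 1)) n U (FreeAbelianGroup.of (idPair x)) ∈
              Supp {a : Sx (prodΔ P (n + 1)) n U | a.1 ∈ faces P T} := by
            rw [bdry_of]
            exact AddSubgroup.sum_mem _ fun i _ =>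
              AddSubgroup.zsmul_mem _ (of_mem_supp (T := {a : Sx (prodΔ P (n + 1)) n U | a.1 ∈ faces P T}) (hx' i)) _
          change bdry (prodΔ P (n + 1)) n W (z x) = 0
          have hl : bdry (prodΔ P (n + 1)) n W
              (lmap H' (bdry (prodΔ P (n + 1)) n U (FreeAbelianGroup.of (idPair x)))) =
              rstCh (prodΔ P (n + 1)) (e ≫ g) (bdry (prodΔ P (n + 1)) n U (FreeAbelianGroup.of (idPair x))) -
                FreeAbelianGroup.map (liftPair f c₁')
                  (bdry (prodΔ P (n + 1)) n U (FreeAbelianGroup.of (idPair x))) := by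
            cases n with
            | zero => exact bdry_lmap_zero hH' _ hu
            | succ k =>
              obtain ⟨_, _, _, H'', _, h0⟩ := hH'
              rw [bdry_lmap_succ (H' := H'') (fun y hy => (h0 y hy).2.2.2) _ hu, bdry_bdry, map_zero, sub_zero]
          simp only [z, map_sub, bdry_rstCh, hl, bdry_liftPair hfc (idPair x) hx]
          abel
    refine J.superset_covering ?_ hS'
    intro W' e' he'
    choose w hw hw' using h' e' he'
    change ∃ H, Htp f (n + 1) ((e' ≫ e) ≫ g) T (fun σ => rst P (e' ≫ e) (c σ)) H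
    rw [Category.assoc]
    refine ⟨fun x => if hx : x ∈ T then w x hx else 0, faces P T, subset_rfl, fun σ => rst P e' (c₁' σ),
      fun y => rstCh (prodΔ P n) e' (H' y), hH'.restrict e', fun x hx => ?_⟩
    simp only [dif_pos hx]
    refine ⟨?_, fun i => ?_, (rst_rst Q (e ≫ g) e' (fapp f x)) ▸ hw x hx, ?_⟩
    · rw [← rst_rst P e e', fapp_rst, him x hx, rst_rst]
    · rw [← rst_rst P e e', face_rst, hfc x hx i]
    · rw [hw' x hx]
      simp only [z, map_sub, rstCh_rstCh, rstCh_liftPair, rstCh_lmap, c₁, rst_rst]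

/-- The projection of a homotopy. -/
noncomputable def projH {n : ℕ} {U V : C} (H : Sx P n U → Ch (prodΔ P n) (n + 1) V) :
    Ch P n U →+ Ch P (n + 1) V :=
  FreeAbelianGroup.lift fun x => mapCh (projΔ P n) (H x)

lemma bdry_projH_zero {U V : C} {g : V ⟶ U} {T : Set (Sx P 0 U)} {c : Sx Q 0 U → Sx P 0 V}
    {H : Sx P 0 U → Ch (prodΔ P 0) 1 V} (hH : Htp f 0 g T c H) {z : Ch P 0 U} (hz : z ∈ Supp T) :
    bdry P 0 V (projH H z) = rstCh P g z - FreeAbelianGroup.map c (mapCh f z) := by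
  refine AddMonoidHom.eqOn_closure (f := (bdry P 0 V).comp (projH H))
    (g := rstCh P g - (FreeAbelianGroup.map c).comp (mapCh f)) ?_ hz
  rintro _ ⟨x, hx, rfl⟩
  change bdry P 0 V (projH H (FreeAbelianGroup.of x)) = rstCh P g (FreeAbelianGroup.of x) -
    FreeAbelianGroup.map c (mapCh f (FreeAbelianGroup.of x))
  rw [projH, FreeAbelianGroup.lift_apply_of, bdry_mapCh, (hH x hx).2.2, map_sub]
  simp only [rstCh, mapCh, FreeAbelianGroup.map_of_apply]
  rfl

lemma bdry_projH_succ {n : ℕ} {U V : C} {g : V ⟶ U} {T : Set (Sx P (n + 1) U)}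
    {c : Sx Q (n + 1) U → Sx P (n + 1) V} {H : Sx P (n + 1) U → Ch (prodΔ P (n + 1)) (n + 2) V}
    (hH : Htp f (n + 1) g T c H) {z : Ch P (n + 1) U} (hz : z ∈ Supp T) (hcyc : bdry P n U z = 0) :
    bdry P (n + 1) V (projH H z) = rstCh P g z - FreeAbelianGroup.map c (mapCh f z) := by
  obtain ⟨T', hT', c', H', hH', hH⟩ := hH
  have key : bdry P (n + 1) V (projH H z) =
      rstCh P g z - FreeAbelianGroup.map c (mapCh f z) - projH H' (bdry P n U z) := by
    refine AddMonoidHom.eqOn_closure (f := (bdry P (n + 1) V).comp (projH H))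
      (g := rstCh P g - (FreeAbelianGroup.map c).comp (mapCh f) - (projH H').comp (bdry P n U)) ?_ hz
    rintro _ ⟨x, hx, rfl⟩
    change bdry P (n + 1) V (projH H (FreeAbelianGroup.of x)) = rstCh P g (FreeAbelianGroup.of x) -
      FreeAbelianGroup.map c (mapCh f (FreeAbelianGroup.of x)) - projH H' (bdry P n U (FreeAbelianGroup.of x))
    rw [projH, FreeAbelianGroup.lift_apply_of, bdry_mapCh, (hH x hx).2.2.2, map_sub, map_sub]
    refine congrArg₂ (· - ·) ?_ ?_
    · simp only [rstCh, mapCh, FreeAbelianGroup.map_of_apply]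
      rfl
    · simp only [bdry_of, map_sum, map_zsmul, lmap_of, projH, FreeAbelianGroup.lift_apply_of]
      refine Finset.sum_congr rfl fun i _ => ?_
      rw [mapCh_projΔ_pushΔ]
      rfl
  rw [key, hcyc, map_zero, sub_zero]

end GrothLib.RelFill25
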