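import Groth.Agent.Lib.RelFill25.Prod

/-! # Coherent local lifts along a locally trivial fibration -/

set_option autoImplicit false
set_option linter.all false
universe u

open CategoryTheory Opposite Simplicial

namespace GrothLib.RelFill25

open GrothLib.Hyper19

variable {C : Type u} [SmallCategory C] (J : GrothendieckTopology C)
  {P Q : SimplicialObject (Cᵒᵖ ⥤ Type u)}

/-- Spheres over a simplex are locally filled. -/
structure RFill (f : P ⟶ Q) : Prop where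
  pt : ∀ (U : C) (σ : Sx Q 0 U), ∃ S ∈ J U, ∀ ⦃V : C⦄ (g : V ⟶ U), S g →
    ∃ x : Sx P 0 V, fapp f x = rst Q g σ
  edge : ∀ (U : C) (a b : Sx P 0 U) (σ : Sx Q 1 U), face Q 0 σ = fapp f a → face Q 1 σ = fapp f b →
    ∃ S ∈ J U, ∀ ⦃V : C⦄ (g : V ⟶ U), S g →
      ∃ x : Sx P 1 V, face P 0 x = rst P g a ∧ face P 1 x = rst P g b ∧ fapp f x = rst Q g σ
  fill : ∀ (m : ℕ) (U : C) (y : Fin (m + 3) → Sx P (m + 1) U) (σ : Sx Q (m + 2) U),
    (∀ i j : Fin (m + 2), i ≤ j → face P i (y j.succ) = face P j (y i.castSucc)) →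
    (∀ i, face Q i σ = fapp f (y i)) →
    ∃ S ∈ J U, ∀ ⦃V : C⦄ (g : V ⟶ U), S g →
      ∃ x : Sx P (m + 2) V, (∀ i, face P i x = rst P g (y i)) ∧ fapp f x = rst Q g σ

variable {J}

/-- A coherent family of lifts of a set of simplices. -/
def Lifted (f : P ⟶ Q) : ∀ (k : ℕ) {U V : C} (g : V ⟶ U) (T : Set (Sx Q k U))
    (c : Sx Q k U → Sx P k V), Prop
  | 0, _, _, g, T, c => ∀ σ ∈ T, fapp f (c σ) = rst Q g σ
  | k + 1, _, _, g, T, c => ∃ T', faces Q T ⊆ T' ∧ ∃ c', Lifted f k g T' c' ∧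
      ∀ σ ∈ T, fapp f (c σ) = rst Q g σ ∧ ∀ i : Fin (k + 2), face P i (c σ) = c' (face Q i σ)

lemma Lifted.image {f : P ⟶ Q} {k : ℕ} {U V : C} {g : V ⟶ U} {T : Set (Sx Q k U)}
    {c : Sx Q k U → Sx P k V} (hc : Lifted f k g T c) {σ : Sx Q k U} (hσ : σ ∈ T) :
    fapp f (c σ) = rst Q g σ := by
  cases k with
  | zero => exact hc σ hσ
  | succ k => obtain ⟨_, _, _, _, h⟩ := hc; exact (h σ hσ).1

lemma Lifted.restrict {f : P ⟶ Q} {k : ℕ} : ∀ {U V W : C} {g : V ⟶ U} {T : Set (Sx Q k U)}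
    {c : Sx Q k U → Sx P k V}, Lifted f k g T c → ∀ h : W ⟶ V,
      Lifted f k (h ≫ g) T (fun σ => rst P h (c σ)) := by
  induction k with
  | zero =>
    intro U V W g T c hc h σ hσ
    rw [fapp_rst, hc σ hσ, rst_rst]
  | succ k ih =>
    intro U V W g T c hc h
    obtain ⟨T', hT', c', hc', hc⟩ := hc
    refine ⟨T', hT', fun σ => rst P h (c' σ), ih hc' h, fun σ hσ => ⟨?_, fun i => ?_⟩⟩
    · rw [fapp_rst, (hc σ hσ).1, rst_rst]
    · rw [face_rst, (hc σ hσ).2 i]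

lemma Lifted.compat {f : P ⟶ Q} {k : ℕ} {U V : C} {g : V ⟶ U} {T : Set (Sx Q (k + 1) U)}
    {c : Sx Q (k + 1) U → Sx P (k + 1) V} (hc : Lifted f (k + 1) g T c) {σ : Sx Q (k + 2) U}
    (hσ : ∀ a, face Q a σ ∈ T) (i j : Fin (k + 2)) (hij : i ≤ j) :
    face P i (c (face Q j.succ σ)) = face P j (c (face Q i.castSucc σ)) := by
  obtain ⟨_, _, c', _, h⟩ := hc
  rw [(h _ (hσ _)).2 i, (h _ (hσ _)).2 j, face_face Q hij]

variable {f : P ⟶ Q} (hf : RFill J f)
include hf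

lemma exists_pt_finite {U : C} (T : Set (Sx Q 0 U)) (hT : T.Finite) :
    ∃ S ∈ J U, ∀ ⦃V : C⦄ (g : V ⟶ U), S g → ∀ σ ∈ T, ∃ x : Sx P 0 V, fapp f x = rst Q g σ := by
  induction T, hT using Set.Finite.induction_on with
  | empty => exact ⟨⊤, J.top_mem _, fun V g _ a ha => absurd ha (Set.notMem_empty a)⟩
  | @insert a T _ _ ih =>
    obtain ⟨S₁, h₁, h₁'⟩ := ih
    obtain ⟨S₂, h₂, h₂'⟩ := hf.pt U a
    refine ⟨S₁ ⊓ S₂, J.intersection_covering h₁ h₂, fun V g hg b hb => ?_⟩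
    rcases hb with rfl | hb
    · exact h₂' g hg.2
    · exact h₁' g hg.1 b hb

/-- Finitely many problems in one positive degree are solved on a common covering. -/
lemma exists_rfill_finite {k : ℕ} {U : C} {ι : Type*} (T : Set ι) (hT : T.Finite)
    (y : ι → Fin (k + 2) → Sx P k U) (σ : ι → Sx Q (k + 1) U)
    (hy : ∀ a ∈ T, match k, y a with
      | 0, _ => True
      | m + 1, y => ∀ i j : Fin (m + 2), i ≤ j → face P i (y j.succ) = face P j (y i.castSucc))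
    (hσ : ∀ a ∈ T, ∀ i, face Q i (σ a) = fapp f (y a i)) :
    ∃ S ∈ J U, ∀ ⦃V : C⦄ (g : V ⟶ U), S g → ∀ a ∈ T,
      ∃ x : Sx P (k + 1) V, (∀ i, face P i x = rst P g (y a i)) ∧ fapp f x = rst Q g (σ a) := by
  have one : ∀ a ∈ T, ∃ S ∈ J U, ∀ ⦃V : C⦄ (g : V ⟶ U), S g →
      ∃ x : Sx P (k + 1) V, (∀ i, face P i x = rst P g (y a i)) ∧ fapp f x = rst Q g (σ a) := by
    intro a ha
    cases k with
    | zero =>
      obtain ⟨S, hS, h⟩ := hf.edge U (y a 0) (y a 1) (σ a) (hσ a ha 0) (hσ a ha 1)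
      refine ⟨S, hS, fun V g hg => ?_⟩
      obtain ⟨x, h0, h1, hx⟩ := h g hg
      exact ⟨x, Fin.forall_fin_two.2 ⟨h0, h1⟩, hx⟩
    | succ m => exact hf.fill m U (y a) (σ a) (hy a ha) (hσ a ha)
  clear hy hσ
  induction T, hT using Set.Finite.induction_on with
  | empty => exact ⟨⊤, J.top_mem _, fun V g _ a ha => absurd ha (Set.notMem_empty a)⟩
  | @insert a T _ _ ih =>
    obtain ⟨S₁, h₁, h₁'⟩ := ih fun b hb => one b (Set.mem_insert_of_mem a hb)
    obtain ⟨S₂, h₂, h₂'⟩ := one a (Set.mem_insert a T)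
    refine ⟨S₁ ⊓ S₂, J.intersection_covering h₁ h₂, fun V g hg b hb => ?_⟩
    rcases hb with rfl | hb
    · exact h₂' g hg.2
    · exact h₁' g hg.1 b hb

/-- Lifts extend by one degree. -/
theorem exists_lifted_succ {k : ℕ} {U V : C} {g : V ⟶ U} {T' : Set (Sx Q k U)}
    {c' : Sx Q k U → Sx P k V} (hc' : Lifted f k g T' c') (T : Set (Sx Q (k + 1) U)) (hT : T.Finite)
    (hTT' : faces Q T ⊆ T') :
    ∃ S ∈ J V, ∀ ⦃W : C⦄ (e : W ⟶ V), S e → ∃ c : Sx Q (k + 1) U → Sx P (k + 1) W,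
      Lifted f (k + 1) (e ≫ g) T c ∧
        ∀ σ ∈ T, ∀ i : Fin (k + 2), face P i (c σ) = rst P e (c' (face Q i σ)) := by
  classical
  have hm : ∀ σ ∈ T, ∀ a, face Q a σ ∈ T' := fun σ hσ a => hTT' (Set.mem_iUnion.2 ⟨a, σ, hσ, rfl⟩)
  obtain ⟨S, hS, h⟩ := exists_rfill_finite hf T hT (fun σ i => c' (face Q i σ)) (fun σ => rst Q g σ)
    (fun σ hσ => by
      cases k with
      | zero => trivial
      | succ k => exact fun i j hij => hc'.compat (hm σ hσ) i j hij)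
    (fun σ hσ i => by rw [face_rst, hc'.image (hm σ hσ i)])
  refine ⟨S, hS, fun W e he => ?_⟩
  choose x hx hx' using h e he
  refine ⟨fun σ => if hσ : σ ∈ T then x σ hσ else
    (P.σ 0).app (op W) (rst P e (c' (face Q 0 σ))), ?_, fun σ hσ i => ?_⟩
  · refine ⟨T', hTT', fun σ => rst P e (c' σ), hc'.restrict e, fun σ hσ => ?_⟩
    simp only [dif_pos hσ]
    exact ⟨(hx' σ hσ).trans (rst_rst Q g e σ), hx σ hσ⟩
  · simp only [dif_pos hσ]
    exact hx σ hσ i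

/-- Every finite set of simplices is locally coherently lifted. -/
theorem exists_lifted : ∀ (k : ℕ) {U : C} (T : Set (Sx Q k U)), T.Finite →
    ∃ S ∈ J U, ∀ ⦃V : C⦄ (g : V ⟶ U), S g → ∃ c, Lifted f k g T c := by
  classical
  intro k
  induction k with
  | zero =>
    intro U T hT
    obtain ⟨S, hS, h⟩ := exists_pt_finite hf T hT
    by_cases hne : T.Nonempty
    · obtain ⟨σ₀, hσ₀⟩ := hne
      refine ⟨S, hS, fun V g hg => ?_⟩
      choose x hx using h g hg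
      exact ⟨fun σ => if hσ : σ ∈ T then x σ hσ else x σ₀ hσ₀, fun σ hσ => by
        simp only [dif_pos hσ]; exact hx σ hσ⟩
    · rw [Set.not_nonempty_iff_eq_empty] at hne
      subst hne
      by_cases hsx : Nonempty (Sx Q 0 U)
      · obtain ⟨σ⟩ := hsx
        obtain ⟨S', hS', h'⟩ := hf.pt U σ
        refine ⟨S', hS', fun V g hg => ?_⟩
        obtain ⟨x, -⟩ := h' g hg
        exact ⟨fun _ => x, fun σ hσ => absurd hσ (Set.notMem_empty σ)⟩
      · exact ⟨⊤, J.top_mem _, fun V g _ => ⟨fun σ => absurd ⟨σ⟩ hsx, fun σ hσ => absurd hσ (Set.notMem_empty σ)⟩⟩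
  | succ k ih =>
    intro U T hT
    obtain ⟨S, hS, h⟩ := ih (faces Q T) (finite_faces Q hT)
    let R : Sieve U :=
      { arrows := fun V g => ∃ c, Lifted f (k + 1) g T c
        downward_closed := by
          rintro V W g ⟨c, hc⟩ h
          exact ⟨_, hc.restrict h⟩ }
    refine ⟨R, ?_, fun V g hg => hg⟩
    refine J.transitive hS R fun V g hg => ?_
    obtain ⟨c', hc'⟩ := h g hg
    obtain ⟨S', hS', h'⟩ := exists_lifted_succ hf hc' T hT subset_rfl
    refine J.superset_covering ?_ hS'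
    intro W e he
    obtain ⟨c, hc, -⟩ := h' e he
    exact ⟨c, hc⟩

end GrothLib.RelFill25
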