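import Groth.Agent.Lib.Hyper19.Chain
import Mathlib.AlgebraicTopology.SimplexCategory.Basic
import Mathlib.CategoryTheory.Sites.LocallySurjective
import Mathlib.Data.Fin.Tuple.Basic
import Mathlib.Tactic.Ring
import Mathlib.Algebra.BigOperators.GroupWithZero.Action
import Mathlib.Algebra.Group.Submonoid.BigOperators
import Mathlib.Algebra.Group.Subgroup.Finite

/-! # Chains on the product with a standard simplex -/

set_option autoImplicit false
set_option linter.all false
universe u

open CategoryTheory Opposite Simplicial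

namespace GrothLib.RelFill25

open GrothLib.Hyper19

variable {C : Type u} [SmallCategory C]

/-- Pairs of a simplex and a simplex of `Δ^m`. -/
def prodΔ (P : SimplicialObject (Cᵒᵖ ⥤ Type u)) (m : ℕ) : SimplicialObject (Cᵒᵖ ⥤ Type u) where
  obj k :=
    { obj := fun V => (P.obj k).obj V × (k.unop ⟶ ⦋m⦌)
      map := fun {V W} g => TypeCat.ofHom fun a => ((P.obj k).map g a.1, a.2)
      map_id := fun V => by ext a <;> simp
      map_comp := fun g h => by ext a <;> simp }
  map {k l} θ :=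
    { app := fun V => TypeCat.ofHom fun a => ((P.map θ).app V a.1, θ.unop ≫ a.2)
      naturality := fun V W g => by
        ext a
        · exact NatTrans.naturality_apply (P.map θ) g a.1
        · rfl }
  map_id k := by
    refine NatTrans.ext (funext fun V => TypeCat.homEquiv.injective (funext fun a => Prod.ext ?_ ?_))
    · exact congrArg (fun t => t.app V a.1) (P.map_id k)
    · exact Category.id_comp a.2
  map_comp {k l m'} θ θ' := by
    refine NatTrans.ext (funext fun V => TypeCat.homEquiv.injective (funext fun a => Prod.ext ?_ ?_))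
    · exact congrArg (fun t => t.app V a.1) (P.map_comp θ θ')
    · exact Category.assoc θ'.unop θ.unop a.2

variable {P Q : SimplicialObject (Cᵒᵖ ⥤ Type u)}

/-- Push forward along a map of standard simplices. -/
def pushΔ (P : SimplicialObject (Cᵒᵖ ⥤ Type u)) {a b : ℕ} (ψ : ⦋a⦌ ⟶ ⦋b⦌) : prodΔ P a ⟶ prodΔ P b where
  app k := { app := fun V => TypeCat.ofHom fun x => (x.1, x.2 ≫ ψ), naturality := fun V W g => rfl }
  naturality k l θ := by
    refine NatTrans.ext (funext fun V => TypeCat.homEquiv.injective (funext fun x => Prod.ext rfl ?_))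
    exact Category.assoc θ.unop x.2 ψ

/-- The projection. -/
def projΔ (P : SimplicialObject (Cᵒᵖ ⥤ Type u)) (m : ℕ) : prodΔ P m ⟶ P where
  app k := { app := fun V => TypeCat.ofHom fun x => x.1, naturality := fun V W g => rfl }
  naturality k l θ := rfl

/-- A map on sections. -/
abbrev fapp (f : P ⟶ Q) {n : ℕ} {U : C} (x : Sx P n U) : Sx Q n U := (f.app (op ⦋n⦌)).app (op U) x

lemma fapp_face (f : P ⟶ Q) {n : ℕ} {U : C} (i : Fin (n + 2)) (x : Sx P (n + 1) U) :
    fapp f (face P i x) = face Q i (fapp f x) :=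
  congrArg (fun t : P.obj (op ⦋n + 1⦌) ⟶ Q.obj (op ⦋n⦌) => t.app (op U) x) (f.naturality (SimplexCategory.δ i).op)

lemma fapp_rst (f : P ⟶ Q) {n : ℕ} {U V : C} (g : V ⟶ U) (x : Sx P n U) :
    fapp f (rst P g x) = rst Q g (fapp f x) :=
  NatTrans.naturality_apply (f.app (op ⦋n⦌)) g.op x

/-- A map on chains. -/
noncomputable abbrev mapCh (f : P ⟶ Q) {n : ℕ} {U : C} : Ch P n U →+ Ch Q n U :=
  FreeAbelianGroup.map (fapp f)

lemma bdry_mapCh (f : P ⟶ Q) {n : ℕ} {U : C} (z : Ch P (n + 1) U) :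
    bdry Q n U (mapCh f z) = mapCh f (bdry P n U z) := by
  suffices h : (bdry Q n U).comp (mapCh f) = (mapCh f).comp (bdry P n U) from DFunLike.congr_fun h z
  refine FreeAbelianGroup.lift_ext _ _ fun σ => ?_
  simp only [AddMonoidHom.comp_apply, mapCh, FreeAbelianGroup.map_of_apply, bdry_of, map_sum, map_zsmul,
    fapp_face]

lemma bdry_rstCh {n : ℕ} {U V : C} (g : V ⟶ U) (z : Ch P (n + 1) U) :
    bdry P n V (rstCh P g z) = rstCh P g (bdry P n U z) := by
  suffices h : (bdry P n V).comp (rstCh P g) = (rstCh P g).comp (bdry P n U) from DFunLike.congr_fun h z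
  refine FreeAbelianGroup.lift_ext _ _ fun σ => ?_
  simp only [AddMonoidHom.comp_apply, rstCh, FreeAbelianGroup.map_of_apply, bdry_of, map_sum, map_zsmul,
    face_rst]

lemma rstCh_rstCh {n : ℕ} {U V W : C} (g : V ⟶ U) (h : W ⟶ V) (z : Ch P n U) :
    rstCh P h (rstCh P g z) = rstCh P (h ≫ g) z := by
  rw [← FreeAbelianGroup.map_comp_apply]
  exact congrArg (fun t => FreeAbelianGroup.map t z) (funext fun x => rst_rst P g h x)

lemma mapCh_rstCh (f : P ⟶ Q) {n : ℕ} {U V : C} (g : V ⟶ U) (z : Ch P n U) :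
    mapCh f (rstCh P g z) = rstCh Q g (mapCh f z) := by
  rw [← FreeAbelianGroup.map_comp_apply, ← FreeAbelianGroup.map_comp_apply]
  exact congrArg (fun t => FreeAbelianGroup.map t z) (funext fun x => fapp_rst f g x)

lemma aug_mapCh (f : P ⟶ Q) {U : C} (z : Ch P 0 U) : aug Q U (mapCh f z) = aug P U z := by
  suffices h : (aug Q U).comp (mapCh f) = aug P U from DFunLike.congr_fun h z
  refine FreeAbelianGroup.lift_ext _ _ fun σ => ?_
  simp [aug, mapCh]

lemma bdry_bdry {n : ℕ} {U : C} (z : Ch P (n + 2) U) : bdry P n U (bdry P (n + 1) U z) = 0 := by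
  suffices h : (bdry P n U).comp (bdry P (n + 1) U) = 0 from DFunLike.congr_fun h z
  refine FreeAbelianGroup.lift_ext _ _ fun σ => ?_
  simp only [AddMonoidHom.comp_apply, AddMonoidHom.zero_apply, bdry_of, map_sum, map_zsmul, Finset.smul_sum,
    smul_smul]
  rw [← Fintype.sum_prod_type']
  let S : Finset (Fin (n + 3) × Fin (n + 2)) := {ij | (ij.2 : ℕ) < (ij.1 : ℕ)}
  rw [← Finset.sum_add_sum_compl S, ← eq_neg_iff_add_eq_zero, ← Finset.sum_neg_distrib]
  refine Finset.sum_bij (fun ij hij => (ij.2.castSucc, ij.1.pred fun h => ?_)) ?_ ?_ ?_ ?_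
  · have h' : (ij.2 : ℕ) < (ij.1 : ℕ) := (Finset.mem_filter.1 hij).2
    rw [h] at h'
    exact Nat.not_lt_zero _ h'
  · rintro ⟨i, j⟩ hij
    have h : (j : ℕ) < (i : ℕ) := (Finset.mem_filter.1 hij).2
    simp only [Finset.mem_compl, S, Finset.mem_filter, Finset.mem_univ, true_and, Fin.val_castSucc,
      Fin.val_pred]
    omega
  · rintro ⟨i, j⟩ hij ⟨i', j'⟩ hij' h
    simp only [Prod.mk.injEq, Fin.castSucc_inj, Fin.pred_inj] at h
    rw [h.1, h.2]
  · rintro ⟨j, i⟩ hij
    simp only [Finset.mem_compl, S, Finset.mem_filter, Finset.mem_univ, true_and, not_lt] at hij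
    refine ⟨(i.succ, j.castLT (by omega)), ?_, ?_⟩
    · simp only [S, Finset.mem_filter, Finset.mem_univ, true_and, Fin.val_succ, Fin.val_castLT]
      omega
    · simp
  · rintro ⟨i, j⟩ hij
    have h : (j : ℕ) < (i : ℕ) := (Finset.mem_filter.1 hij).2
    have hle : j ≤ i.pred (fun h0 => by rw [h0] at h; exact Nat.not_lt_zero _ h) := by
      rw [Fin.le_def, Fin.val_pred]
      omega
    have hff := face_face P hle σ
    rw [Fin.succ_pred] at hff
    simp only [Fin.val_castSucc, Fin.val_pred]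
    rw [← hff, ← neg_smul]
    congr 1
    obtain ⟨k, hk⟩ : ∃ k, (i : ℕ) = k + 1 := ⟨(i : ℕ) - 1, by omega⟩
    rw [hk, Nat.add_sub_cancel, pow_succ]
    ring

/-- Chains supported on a set of simplices. -/
abbrev Supp {n : ℕ} {U : C} (T : Set (Sx P n U)) : AddSubgroup (Ch P n U) :=
  AddSubgroup.closure (FreeAbelianGroup.of '' T)

lemma of_mem_supp {n : ℕ} {U : C} {T : Set (Sx P n U)} {x : Sx P n U} (hx : x ∈ T) :
    FreeAbelianGroup.of x ∈ Supp T :=
  AddSubgroup.subset_closure ⟨x, hx, rfl⟩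

lemma map_mem_supp {n m : ℕ} {U V : C} {R : SimplicialObject (Cᵒᵖ ⥤ Type u)} {T : Set (Sx P n U)}
    {T' : Set (Sx R m V)} (φ : Ch P n U →+ Ch R m V)
    (h : ∀ x ∈ T, φ (FreeAbelianGroup.of x) ∈ Supp T') {z : Ch P n U} (hz : z ∈ Supp T) : φ z ∈ Supp T' := by
  have : Supp T ≤ (Supp T').comap φ := (AddSubgroup.closure_le _).2 (by rintro _ ⟨x, hx, rfl⟩; exact h x hx)
  exact this hz

lemma bdry_mem_supp {n : ℕ} {U : C} {T : Set (Sx P (n + 1) U)} {T' : Set (Sx P n U)}
    (h : faces P T ⊆ T') {z : Ch P (n + 1) U} (hz : z ∈ Supp T) : bdry P n U z ∈ Supp T' := by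
  refine map_mem_supp _ (fun σ hσ => ?_) hz
  rw [bdry_of]
  exact AddSubgroup.sum_mem _ fun i _ => AddSubgroup.zsmul_mem _ (of_mem_supp (h (Set.mem_iUnion.2 ⟨i, σ, hσ, rfl⟩))) _

end GrothLib.RelFill25
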